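import Groth.Agent.H24Quot.LocalSetup
import Groth.Prelude.Def_KLin

/-!
# Multiplication by scalars and change of the base ring
-/

set_option autoImplicit false
set_option linter.style.haveILetI false
universe u
open CategoryTheory CategoryTheory.Limits AlgebraicGeometry IsLocalRing ArtFun ArtFun.Art

namespace Groth.Agent.H24Quot

section general

variable {P Q : Scheme.{u}} (j : Q ⟶ P)

theorem pushforward_map_smulModΓ (N : Q.Modules) (r : Coh.Γtop P) :
    (Scheme.Modules.pushforward j).map (Formal.smulModΓ N (j.appTop r)) =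
      Formal.smulModΓ ((Scheme.Modules.pushforward j).obj N) r := by
  refine Scheme.Modules.hom_ext _ _ fun U => ?_
  ext m
  revert m
  change ∀ m : Γ(N, j ⁻¹ᵁ U), (Q.presheaf.map (homOfLE (le_top : j ⁻¹ᵁ U ≤ ⊤)).op (j.appTop r)) • m =
    (j.app U (P.presheaf.map (homOfLE (le_top : U ≤ ⊤)).op r)) • m
  intro m
  congr 1
  exact (congr($(j.naturality (homOfLE (le_top : U ≤ ⊤)).op) r)).symm

theorem pullback_map_smulModΓ (M : P.Modules) (r : Coh.Γtop P) :
    (Scheme.Modules.pullback j).map (Formal.smulModΓ M r) =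
      Formal.smulModΓ ((Scheme.Modules.pullback j).obj M) (j.appTop r) := by
  apply ((Scheme.Modules.pullbackPushforwardAdjunction j).homEquiv _ _).injective
  rw [Adjunction.homEquiv_unit, Adjunction.homEquiv_unit, pushforward_map_smulModΓ]
  exact (((Scheme.Modules.pullbackPushforwardAdjunction j).unit.naturality (Formal.smulModΓ M r)).symm).trans
    (KLin.comp_smulModΓ ((Scheme.Modules.pullbackPushforwardAdjunction j).unit.app M) r).symm

/-- Multiplications and change of the base ring. -/
theorem pullback_map_smulMod {R₁ R₂ : Type u} [CommRing R₁] [CommRing R₂] [P.Over (Spec (CommRingCat.of R₁))]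
    [Q.Over (Spec (CommRingCat.of R₂))] (μ : R₁ →+* R₂)
    (w : j ≫ (P ↘ Spec (CommRingCat.of R₁)) = (Q ↘ Spec (CommRingCat.of R₂)) ≫ Spec.map (CommRingCat.ofHom μ))
    (M : P.Modules) (a : R₁) :
    (Scheme.Modules.pullback j).map (Formal.smulMod R₁ M a) =
      Formal.smulMod R₂ ((Scheme.Modules.pullback j).obj M) (μ a) := by
  refine (pullback_map_smulModΓ j M _).trans (congrArg _ ?_)
  show j.appTop ((P ↘ Spec (CommRingCat.of R₁)).appTop ((Scheme.ΓSpecIso _).inv a)) =
    (Q ↘ Spec (CommRingCat.of R₂)).appTop ((Scheme.ΓSpecIso _).inv (μ a))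
  have h := Scheme.ΓSpecIso_inv_naturality (CommRingCat.ofHom μ)
  rw [show (Scheme.ΓSpecIso (CommRingCat.of R₂)).inv (μ a) =
    (Spec.map (CommRingCat.ofHom μ)).appTop ((Scheme.ΓSpecIso (CommRingCat.of R₁)).inv a)
    from ConcreteCategory.congr_hom h a]
  have h2 := congrArg Scheme.Hom.appTop w
  rw [Scheme.Hom.comp_appTop, Scheme.Hom.comp_appTop] at h2
  exact ConcreteCategory.congr_hom h2 _

end general

variable {k : Type u} [Field k] {X : Scheme.{u}} (x : X ⟶ specPt k)

/-- The closed fibre over the ground field. -/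
@[reducible] noncomputable def over0 :
    (PicF.XT x (sp (Art.base k k))).Over (Spec (CommRingCat.of k)) :=
  ⟨PicF.XTproj x (sp (Art.base k k))⟩

attribute [local instance] overArt over0

variable {B B' : Art k k} (f : B ⟶ B')

theorem pullback_smul_gm (M : (PicF.XT x (sp B)).Modules) (b : B) :
    (Scheme.Modules.pullback (PicF.XTmap x (gm f))).map (Formal.smulMod B M b) =
      Formal.smulMod B' ((Scheme.Modules.pullback (PicF.XTmap x (gm f))).obj M) (f b) :=
  pullback_map_smulMod _ f.toAlgHom.toRingHom (isPullback_gm x f).w M b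

theorem pullback_smul_toBase (M : (PicF.XT x (sp B)).Modules) (b : B) :
    (Scheme.Modules.pullback (PicF.XTmap x (gm (toBase B)))).map (Formal.smulMod B M b) =
      Formal.smulMod k ((Scheme.Modules.pullback (PicF.XTmap x (gm (toBase B)))).obj M) (B.res b) :=
  pullback_map_smulMod _ B.res.toRingHom (isPullback_gm x (toBase B)).w M b

end Groth.Agent.H24Quot
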