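import Groth.Agent.H24Quot.QuotPull
import Groth.Agent.H06EGA9.FlatFibreBC
import Groth.Agent.H17.ConsModModels
import Groth.Agent.H10Coh.FinType2
import Groth.Agent.H24Hilb.Point

/-!
# Pullback of members of the Quot functor
-/

set_option autoImplicit false
set_option linter.style.haveILetI false
universe u
open CategoryTheory CategoryTheory.Limits AlgebraicGeometry

namespace Groth.Agent.H24Quot

variable {X S : Scheme.{u}} (f : X ⟶ S) (E : X.Modules) {T T' : Over S}

theorem isFlatOver_congr {P Y : Scheme.{u}} (a : P ⟶ Y) {M N : P.Modules} (e : M ≅ N)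
    (h : FlatMod.IsFlatOver a M) : FlatMod.IsFlatOver a N :=
  fun v => (H06EGA9.isFlatOverAt_congr_iso a e v).1 (h v)

/-- Quotients by a kernel subobject. -/
theorem nonempty_cokernel_iso {C : Type*} [Category C] [Abelian C] {E F : C} (π : E ⟶ F) [Epi π]
    (K : Subobject E) (h : K = kernelSubobject π) : Nonempty (F ≅ cokernel K.arrow) := by
  obtain ⟨φ, -⟩ := exists_iso_of_kernelSubobject_eq π (cokernel.π K.arrow) (h.symm.trans (kernelSubobject_cokernel_π K).symm)
  exact ⟨φ⟩

/-- Pullbacks of members are members. -/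
theorem quotPull_mem (g : T' ⟶ T) (K : FGA.QuotSet f E T) :
    Coh.IsCoh (cokernel (FGA.quotPull f E g K.1).arrow) ∧
      FlatMod.IsFlatOver (PicF.XTproj f T') (cokernel (FGA.quotPull f E g K.1).arrow) := by
  haveI := epi_pullQ f E g (cokernel.π K.1.arrow)
  obtain ⟨φ⟩ := nonempty_cokernel_iso (pullQ f E g (cokernel.π K.1.arrow)) _
    (quotPull_eq f E g _ K.1 (kernelSubobject_cokernel_π K.1).symm)
  exact ⟨H10Coh.isCoh_of_iso φ (H17.ConsProp.isCoh_pullback _ K.2.1),
    isFlatOver_congr _ φ fun v =>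
      H06EGA9.isFlatOverAt_of_isPullback (H24Hilb.isPullback_XTmap f g) _ v (K.2.2 _)⟩

/-- Pullback of a member. -/
noncomputable def pullSet (g : T' ⟶ T) (K : FGA.QuotSet f E T) : FGA.QuotSet f E T' :=
  ⟨FGA.quotPull f E g K.1, quotPull_mem f E g K⟩

theorem pullback_id_natural {P Y : Scheme.{u}} {a : P ⟶ P} (ha : a = 𝟙 P) (c : P ⟶ Y) (h : a ≫ c = c)
    (M : Y.Modules) {F : P.Modules} (π : (Scheme.Modules.pullback c).obj M ⟶ F) :
    ∃ φ : (Scheme.Modules.pullback a).obj F ≅ F,
      (((Scheme.Modules.pullbackComp a c).app M ≪≫ (Scheme.Modules.pullbackCongr h).app M).inv ≫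
        (Scheme.Modules.pullback a).map π) ≫ φ.hom = π := by
  subst ha
  refine ⟨(Scheme.Modules.pullbackId P).app F, ?_⟩
  have e := congrArg (fun η => η.app M) (Scheme.Modules.pseudofunctor_right_unitality c)
  simp only [NatTrans.comp_app, Functor.whiskerLeft_app, Functor.rightUnitor_hom_app, eqToHom_app] at e
  rw [Category.assoc, Iso.app_hom, (Scheme.Modules.pullbackId P).hom.naturality π]
  erw [Category.comp_id] at e
  rw [← Category.assoc, Functor.id_map]
  have h0 : ((Scheme.Modules.pullbackComp (𝟙 P) c).app M ≪≫ (Scheme.Modules.pullbackCongr h).app M).inv ≫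
      (Scheme.Modules.pullbackId P).hom.app ((Scheme.Modules.pullback c).obj M) = 𝟙 _ := by
    simp only [Scheme.Modules.pullbackCongr, Iso.trans_inv, Iso.app_inv, eqToIso.inv, eqToHom_app, Category.assoc]
    rw [e]
    simp
  rw [h0]
  exact Category.id_comp π

theorem XTmap_id (T : Over S) : PicF.XTmap f (𝟙 T) = 𝟙 _ := by
  apply pullback.hom_ext
  · rw [FGA.XTmap_fst, Category.id_comp]
  · rw [PicF.XTmap, pullback.map, pullback.lift_snd, Category.id_comp]
    exact Category.comp_id _

/-- Unitality of the pullback of subobjects. -/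
theorem quotPull_id (K : Subobject (FGA.ET f E T)) : FGA.quotPull f E (𝟙 T) K = K := by
  obtain ⟨φ, hφ⟩ := pullback_id_natural (XTmap_id f T) (pullback.fst f T.hom) (FGA.XTmap_fst f (𝟙 T)) E
    (cokernel.π K.arrow)
  rw [quotPull_eq f E _ _ K (kernelSubobject_cokernel_π K).symm,
    ← kernelSubobject_comp_mono (pullQ f E (𝟙 T) (cokernel.π K.arrow)) φ.hom]
  conv_rhs => rw [← kernelSubobject_cokernel_π K]
  refine congrArg (fun m => kernelSubobject m) ?_
  rw [pullQ, ETiso_eq]
  exact hφ

end Groth.Agent.H24Quot
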