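import Groth.Agent.H24Quot.Lift
import Groth.Agent.H24Quot.QuotFun
import Groth.Agent.H24FSch.ModSysPush
import Groth.Agent.H28Int.FieldExt
import Groth.Agent.H06Mod.StalkBaseChange
import Groth.Agent.H24Art.Basic

/-!
# The thickenings of a scheme over a field by Artinian rings, and modules on them
-/

set_option autoImplicit false
set_option linter.style.haveILetI false
universe u
open CategoryTheory CategoryTheory.Limits AlgebraicGeometry IsLocalRing ArtFun ArtFun.Art
open Groth.Agent.H06Mod

namespace Groth.Agent.H24Quot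

attribute [local instance] stkModule

variable {k : Type u} [Field k] {X : Scheme.{u}} (x : X ⟶ specPt k) (E : X.Modules)

/-- The spectrum of an Artinian object over the base. -/
noncomputable abbrev sp (A : Art k k) : Over (specPt k) := Over.mk (specOver A)

/-- The map of spectra over the base. -/
noncomputable abbrev gm {B A : Art k k} (p : B ⟶ A) : sp A ⟶ sp B := Over.homMk (specMap p) (specOver_comp p)

/-- The thickenings lie over their rings. -/
@[reducible] noncomputable def overArt (A : Art k k) : (PicF.XT x (sp A)).Over (Spec (CommRingCat.of A)) :=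
  ⟨PicF.XTproj x (sp A)⟩

attribute [local instance] overArt

theorem gm_comp {C B A : Art k k} (p : C ⟶ B) (q : B ⟶ A) : gm q ≫ gm p = gm (p ≫ q) := by
  apply Over.OverMorphism.ext
  show Spec.map _ ≫ Spec.map _ = Spec.map _
  rw [← Spec.map_comp]
  rfl

theorem gm_id (A : Art k k) : gm (𝟙 A) = 𝟙 (sp A) := by
  apply Over.OverMorphism.ext
  show Spec.map _ = 𝟙 _
  rw [← Spec.map_id]
  rfl

theorem gm_toBase {B A : Art k k} (p : B ⟶ A) : gm (toBase A) ≫ gm p = gm (toBase B) := by
  rw [gm_comp]
  exact congrArg gm (eq_toBase _)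

theorem subsingleton_primeSpectrum (A : Art k k) : Subsingleton (PrimeSpectrum A) :=
  ⟨fun P Q => PrimeSpectrum.ext ((IsLocalRing.eq_maximalIdeal (IsArtinianRing.isMaximal_of_isPrime P.asIdeal)).trans
    (IsLocalRing.eq_maximalIdeal (IsArtinianRing.isMaximal_of_isPrime Q.asIdeal)).symm)⟩

variable {B A : Art k k} (p : B ⟶ A)

theorem surjective_XTmap : Function.Surjective (PicF.XTmap x (gm p)) := by
  haveI : Subsingleton (PrimeSpectrum B) := subsingleton_primeSpectrum B
  haveI : Surjective (gm p).left := ⟨fun b => ⟨IsLocalRing.closedPoint A, Subsingleton.elim (α := PrimeSpectrum B) _ _⟩⟩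
  haveI : Surjective (PicF.XTmap x (gm p)) :=
    MorphismProperty.of_isPullback (P := @Surjective) (H24Hilb.isPullback_XTmap x (gm p)).flip inferInstance
  exact (PicF.XTmap x (gm p)).surjective

theorem isClosedImmersion_XTmap (hp : Function.Surjective p) : IsClosedImmersion (PicF.XTmap x (gm p)) :=
  haveI : IsClosedImmersion (gm p).left := IsClosedImmersion.spec_of_surjective _ hp
  MorphismProperty.of_isPullback (P := @IsClosedImmersion) (H24Hilb.isPullback_XTmap x (gm p)).flip inferInstance

theorem isPullback_gm : IsPullback (PicF.XTmap x (gm p)) (PicF.XTproj x (sp A))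
    ((PicF.XT x (sp B)) ↘ Spec (CommRingCat.of B)) (Spec.map (CommRingCat.ofHom p.toAlgHom.toRingHom)) :=
  H24Hilb.isPullback_XTmap x (gm p)

theorem ker_XTmap (hp : Function.Surjective p) (v : PicF.XT x (sp A)) :
    RingHom.ker ((PicF.XTmap x (gm p)).stalkMap v).hom =
      (RingHom.ker p.toAlgHom.toRingHom).map (base B (PicF.XTmap x (gm p) v)) :=
  ker_stalkMap_fibre p.toAlgHom.toRingHom hp (isPullback_gm x p) v

theorem ker_XTmap_toBase (v : PicF.XT x (sp (Art.base k k))) :
    RingHom.ker ((PicF.XTmap x (gm (toBase B))).stalkMap v).hom =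
      (maximalIdeal B).map (base B (PicF.XTmap x (gm (toBase B)) v)) := by
  rw [ker_XTmap x (toBase B) B.res_surjective v]
  congr 1
  ext b
  exact (B.mem_maximalIdeal_iff b).symm

/-- The scalars of the base in local rings. -/
theorem stalkMap_base (v : PicF.XT x (sp A)) (b : B) :
    (PicF.XTmap x (gm p)).stalkMap v (base B (PicF.XTmap x (gm p) v) b) = base A v (p b) := by
  show (PicF.XTmap x (gm p)).stalkMap v ((PicF.XT x (sp B)).presheaf.germ ⊤ _ trivial _) =
    (PicF.XT x (sp A)).presheaf.germ ⊤ v trivial _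
  erw [Scheme.Hom.germ_stalkMap_apply]
  refine congrArg ((PicF.XT x (sp A)).presheaf.germ ⊤ v trivial).hom ?_
  show ((PicF.XTmap x (gm p)).appTop ((PicF.XTproj x (sp B)).appTop ((Scheme.ΓSpecIso _).inv b))) =
    (PicF.XTproj x (sp A)).appTop ((Scheme.ΓSpecIso _).inv (p b))
  have h := Scheme.ΓSpecIso_inv_naturality (CommRingCat.ofHom p.toAlgHom.toRingHom)
  rw [show (Scheme.ΓSpecIso (CommRingCat.of A)).inv (p b) =
    (Spec.map (CommRingCat.ofHom p.toAlgHom.toRingHom)).appTop ((Scheme.ΓSpecIso (CommRingCat.of B)).inv b)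
    from ConcreteCategory.congr_hom h b]
  have h2 := congrArg Scheme.Hom.appTop (isPullback_gm x p).w
  rw [Scheme.Hom.comp_appTop, Scheme.Hom.comp_appTop] at h2
  exact ConcreteCategory.congr_hom h2 _

theorem flat_ET (v : PicF.XT x (sp A)) : Module.Flat A ((FGA.ET x E (sp A)).presheaf.stalk v) := by
  haveI : Subsingleton (PrimeSpectrum A) := subsingleton_primeSpectrum A
  refine (isFlatOverAt_iff (FGA.ET x E (sp A)) v).1 ?_
  exact H06Mod.isFlatOverAt_baseChange x (specOver A) E v (H28Int.FieldExt.isFlatOver_of_field x E _)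

theorem flat_stalk {M : (PicF.XT x (sp A)).Modules} (h : FlatMod.IsFlatOver (PicF.XTproj x (sp A)) M)
    (v : PicF.XT x (sp A)) : Module.Flat A (M.presheaf.stalk v) :=
  haveI : Subsingleton (PrimeSpectrum A) := subsingleton_primeSpectrum A
  (isFlatOverAt_iff M v).1 (h v)

theorem isFlatOver_of_flat_stalk {M : (PicF.XT x (sp A)).Modules}
    (h : ∀ v : PicF.XT x (sp A), Module.Flat A (M.presheaf.stalk v)) :
    FlatMod.IsFlatOver (PicF.XTproj x (sp A)) M := fun v =>
  haveI : Subsingleton (PrimeSpectrum A) := subsingleton_primeSpectrum A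
  (isFlatOverAt_iff M v).2 (h v)

theorem isLocallyNoetherian_XT [LocallyOfFiniteType x] : IsLocallyNoetherian (PicF.XT x (sp A)) := by
  haveI : LocallyOfFiniteType (PicF.XTproj x (sp A)) :=
    MorphismProperty.of_isPullback (P := @LocallyOfFiniteType) (IsPullback.of_hasPullback x (sp A).hom) ‹_›
  haveI : IsLocallyNoetherian (sp A).left := inferInstanceAs (IsLocallyNoetherian (spec A))
  exact LocallyOfFiniteType.isLocallyNoetherian (PicF.XTproj x (sp A))

section push

variable {P Z : Scheme.{u}} (j : Z ⟶ P)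

/-- The counit of the adjunction along a morphism. -/
noncomputable abbrev cou (F : Z.Modules) :
    (Scheme.Modules.pullback j).obj ((Scheme.Modules.pushforward j).obj F) ⟶ F :=
  (Scheme.Modules.pullbackPushforwardAdjunction j).counit.app F

/-- The stalk of a pushforward, read on the closed subscheme. -/
noncomputable def nu (F : Z.Modules) (v : Z) :
    ((Scheme.Modules.pushforward j).obj F).presheaf.stalk (j v) →+ F.presheaf.stalk v :=
  (stalkLin (cou j F) v).toAddMonoidHom.comp (pullStalk j ((Scheme.Modules.pushforward j).obj F) v).hom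

theorem nu_apply (F : Z.Modules) (v : Z) (z : ((Scheme.Modules.pushforward j).obj F).presheaf.stalk (j v)) :
    nu j F v z = stalkLin (cou j F) v (pullStalk j _ v z) :=
  rfl

variable {E : P.Modules} {F : Z.Modules} (ψ : (Scheme.Modules.pullback j).obj E ⟶ F)

theorem nu_homEquiv (v : Z) (e : E.presheaf.stalk (j v)) :
    nu j F v (stalkLin ((Scheme.Modules.pullbackPushforwardAdjunction j).homEquiv E F ψ) (j v) e) =
      stalkLin ψ v (pullStalk j E v e) := by
  rw [nu_apply, ← stalkLin_pullback, ← stalkLin_comp]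
  refine congrArg (fun φ => stalkLin φ v (pullStalk j E v e)) ?_
  exact (Adjunction.homEquiv_counit _ _ _ _).symm.trans (Equiv.symm_apply_apply _ ψ)

variable [IsClosedImmersion j]

theorem nu_injective (F : Z.Modules) (v : Z) : Function.Injective (nu j F v) := by
  rw [injective_iff_map_eq_zero]
  intro z hz
  have h := (stalkLin_homEquiv_eq_zero_iff j (cou j F) v z).2 hz
  rw [show (Scheme.Modules.pullbackPushforwardAdjunction j).homEquiv _ F (cou j F) = 𝟙 _ by
    rw [Adjunction.homEquiv_unit]
    exact (Scheme.Modules.pullbackPushforwardAdjunction j).right_triangle_components F] at h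
  rwa [stalkLin_id] at h

variable [Epi ψ]

include ψ in
theorem nu_surjective_of_epi (v : Z) : Function.Surjective (nu j F v) := fun z => by
  obtain ⟨y, rfl⟩ := (H8Props.FunDescent.epi_iff ψ).1 inferInstance v z
  obtain ⟨e, rfl⟩ := pullStalk_surjective j E v y
  exact ⟨_, nu_homEquiv j ψ v e⟩

theorem epi_homEquiv (hj : Function.Surjective j) :
    Epi ((Scheme.Modules.pullbackPushforwardAdjunction j).homEquiv E F ψ) := by
  refine (H8Props.FunDescent.epi_iff _).2 fun y z => ?_
  obtain ⟨v, rfl⟩ := hj y
  obtain ⟨w, hw⟩ := (H8Props.FunDescent.epi_iff ψ).1 inferInstance v (nu j F v z)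
  obtain ⟨e, rfl⟩ := pullStalk_surjective j E v w
  exact ⟨e, nu_injective j F v ((nu_homEquiv j ψ v e).trans hw)⟩

include ψ in
theorem isIso_counit : IsIso (cou j F) := by
  refine (H8Props.FunDescent.isIso_iff _).2 fun v => ⟨fun a b h => ?_, fun z => ?_⟩
  · obtain ⟨a, rfl⟩ := pullStalk_surjective j _ v a
    obtain ⟨b, rfl⟩ := pullStalk_surjective j _ v b
    exact congrArg _ (nu_injective j F v h)
  · obtain ⟨y, rfl⟩ := nu_surjective_of_epi j ψ v z
    exact ⟨_, rfl⟩

end push

variable (F : (PicF.XT x (sp A)).Modules)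

theorem nu_smul (v : PicF.XT x (sp A)) (b : B)
    (z : ((Scheme.Modules.pushforward (PicF.XTmap x (gm p))).obj F).presheaf.stalk (PicF.XTmap x (gm p) v)) :
    nu (PicF.XTmap x (gm p)) F v (b • z) = p b • nu (PicF.XTmap x (gm p)) F v z := by
  rw [nu_apply, nu_apply, base_smul, base_smul, pullStalk_smul, map_smul]
  congr 1
  exact stalkMap_base x p v b

/-- Relations in the pushforward of a flat module. -/
theorem relTriv_push (hp : Function.Surjective p) (hF : FlatMod.IsFlatOver (PicF.XTproj x (sp A)) F)
    (hs : ∀ v : PicF.XT x (sp A), Function.Surjective (nu (PicF.XTmap x (gm p)) F v))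
    (y : PicF.XT x (sp B)) :
    RelTriv (((Scheme.Modules.pushforward (PicF.XTmap x (gm p))).obj F).presheaf.stalk y)
      (RingHom.ker p.toAlgHom.toRingHom) := by
  haveI := isClosedImmersion_XTmap x p hp
  obtain ⟨v, rfl⟩ := surjective_XTmap x p y
  haveI := flat_stalk x hF v
  let N := ((Scheme.Modules.pushforward (PicF.XTmap x (gm p))).obj F).presheaf.stalk (PicF.XTmap x (gm p) v)
  let ν : N ≃+ F.presheaf.stalk v := AddEquiv.ofBijective (nu (PicF.XTmap x (gm p)) F v)
    ⟨nu_injective _ F v, hs v⟩
  letI : Module A N := AddEquiv.module A ν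
  haveI : Module.Flat A N := Module.Flat.of_linearEquiv (ν.linearEquiv A)
  refine relTriv_of_flat p.toAlgHom.toRingHom hp fun c g => ν.injective ?_
  show ν (c • g) = ν (ν.symm (p c • ν g))
  rw [AddEquiv.apply_symm_apply]
  exact nu_smul x p F v c g

theorem smulMod_push (hp : Function.Surjective p) {b : B} (hb : p b = 0) :
    Formal.smulMod B ((Scheme.Modules.pushforward (PicF.XTmap x (gm p))).obj F) b = 0 := by
  haveI := isClosedImmersion_XTmap x p hp
  refine (H8Props.FunDescent.eq_zero_iff _).2 fun y => LinearMap.ext fun z => ?_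
  obtain ⟨v, rfl⟩ := surjective_XTmap x p y
  refine nu_injective _ F v ?_
  rw [stalkLin_smulMod, nu_smul, hb, zero_smul, LinearMap.zero_apply, map_zero]

end Groth.Agent.H24Quot
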