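import Groth.Agent.H24Formal.SectionSystem
import Groth.Agent.H8Props.NilThickTor
import Groth.Agent.H8Props.FunDescent.Stalk
import Groth.Agent.H8Props.FibreStalk
import Groth.Agent.H24Formal.Pullback
import Mathlib.LinearAlgebra.TensorProduct.Quotient

/-!
# Stalks of modules on schemes over an affine base, and their restriction to closed fibres
-/

set_option autoImplicit false
set_option linter.style.haveILetI false
universe u
open CategoryTheory CategoryTheory.Limits AlgebraicGeometry
open Groth.Agent.H06Mod
open scoped TensorProduct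

namespace Groth.Agent.H24Quot

variable (R : Type u) [CommRing R] {P : Scheme.{u}} [P.Over (Spec (CommRingCat.of R))]

/-- The scalars of the base in a local ring. -/
noncomputable def base (v : P) : R →+* P.presheaf.stalk v :=
  (P.presheaf.germ ⊤ v trivial).hom.comp (Coh.toGlobal (P ↘ Spec (CommRingCat.of R)))

/-- A stalk as a module over the base. -/
@[reducible] noncomputable def stkModule (M : P.Modules) (v : P) : Module R (M.presheaf.stalk v) :=
  Module.compHom _ (base R v)

attribute [local instance] stkModule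

variable {R}

theorem base_smul {M : P.Modules} {v : P} (a : R) (z : M.presheaf.stalk v) : a • z = base R v a • z := rfl

theorem stalkLin_smulMod (M : P.Modules) (a : R) (v : P) (z : M.presheaf.stalk v) :
    stalkLin (Formal.smulMod R M a) v z = a • z := by
  obtain ⟨U, hU, m, rfl⟩ := M.presheaf.exists_germ_eq z
  rw [stalkLin_germ, H24Formal.smulMod_app, germ_smul, base_smul]
  congr 1
  show P.presheaf.germ U v hU (P.presheaf.map (homOfLE (le_top : U ≤ ⊤)).op _) = _
  rw [TopCat.Presheaf.germ_res_apply]
  rfl

variable (R) in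
/-- A map on stalks, over the base. -/
noncomputable def stalkR {M N : P.Modules} (φ : M ⟶ N) (v : P) :
    M.presheaf.stalk v →ₗ[R] N.presheaf.stalk v where
  toFun := stalkLin φ v
  map_add' := map_add _
  map_smul' a z := (stalkLin φ v).map_smul (base R v a) z

theorem stalkR_apply {M N : P.Modules} (φ : M ⟶ N) (v : P) (z : M.presheaf.stalk v) :
    stalkR R φ v z = stalkLin φ v z := rfl

/-- An ideal of the base times a stalk. -/
theorem mem_smul_top_iff (J : Ideal R) {M : P.Modules} {v : P} (z : M.presheaf.stalk v) :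
    z ∈ (J.map (base R v)) • (⊤ : Submodule (P.presheaf.stalk v) (M.presheaf.stalk v)) ↔
      z ∈ J • (⊤ : Submodule R (M.presheaf.stalk v)) := by
  letI := (base R v).toAlgebra
  haveI : IsScalarTower R (P.presheaf.stalk v) (M.presheaf.stalk v) := IsScalarTower.of_algebraMap_smul fun _ _ => rfl
  rw [← Submodule.restrictScalars_mem R, show J.map (base R v) = J.map (algebraMap R (P.presheaf.stalk v)) from rfl,
    Ideal.smul_restrictScalars, Submodule.restrictScalars_top]

section closed

variable {Z : Scheme.{u}} (i : Z ⟶ P) [IsClosedImmersion i] (M : P.Modules)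

omit [P.Over (Spec (CommRingCat.of R))] in
theorem pullStalk_surjective (v : Z) : Function.Surjective (pullStalk i M v) := by
  intro z
  obtain ⟨w, rfl⟩ := (pullStalkLin_bijective i M v).2 z
  induction w using TensorProduct.induction_on with
  | zero => exact ⟨0, by rw [map_zero, map_zero]⟩
  | tmul r m =>
    obtain ⟨r', rfl⟩ := i.stalkMap_surjective v r
    exact ⟨r' • m, by rw [pullStalkLin_tmul, pullStalk_smul]⟩
  | add a b ha hb =>
    obtain ⟨a', ha⟩ := ha
    obtain ⟨b', hb⟩ := hb
    exact ⟨a' + b', by rw [map_add, map_add, ha, hb]⟩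

omit [P.Over (Spec (CommRingCat.of R))] in
theorem pullStalk_eq_zero_iff (v : Z) (z : M.presheaf.stalk (i v)) :
    pullStalk i M v z = 0 ↔
      z ∈ RingHom.ker (i.stalkMap v).hom • (⊤ : Submodule (P.presheaf.stalk (i v)) (M.presheaf.stalk (i v))) := by
  letI := stalkAlgebra i v
  let S := P.presheaf.stalk (i v)
  let T := Z.presheaf.stalk v
  constructor
  · intro h
    have h0 : ((1 : T) ⊗ₜ[S] z : T ⊗[S] M.presheaf.stalk (i v)) = 0 := (pullStalkLin_bijective i M v).1 (by
      rw [map_zero, pullStalkLin_tmul, one_smul, h])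
    let φ : (S ⧸ RingHom.ker (i.stalkMap v).hom) →ₗ[S] T :=
      (Ideal.Quotient.liftₐ (RingHom.ker (i.stalkMap v).hom) (Algebra.ofId S T) fun a ha => ha).toLinearMap
    have hφ : Function.Bijective φ := by
      refine ⟨fun a b hab => ?_, fun r => ?_⟩
      · obtain ⟨a, rfl⟩ := Ideal.Quotient.mk_surjective a
        obtain ⟨b, rfl⟩ := Ideal.Quotient.mk_surjective b
        refine Ideal.Quotient.eq.2 (RingHom.mem_ker.2 ?_)
        rw [map_sub, sub_eq_zero]
        exact hab
      · obtain ⟨r', rfl⟩ := i.stalkMap_surjective v r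
        exact ⟨Ideal.Quotient.mk _ r', rfl⟩
    let e := LinearEquiv.rTensor (M.presheaf.stalk (i v)) (LinearEquiv.ofBijective φ hφ)
    have h1 : ((1 : S ⧸ RingHom.ker (i.stalkMap v).hom) ⊗ₜ[S] z) = 0 := e.injective (by
      rw [map_zero, ← h0]
      show φ 1 ⊗ₜ[S] z = _
      rw [show φ 1 = (1 : T) from map_one (Ideal.Quotient.liftₐ (RingHom.ker (i.stalkMap v).hom)
        (Algebra.ofId S T) fun a ha => ha)])
    have h2 := congrArg (TensorProduct.quotTensorEquivQuotSMul (M.presheaf.stalk (i v))
      (RingHom.ker (i.stalkMap v).hom)) h1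
    rw [← map_one (Ideal.Quotient.mk _), TensorProduct.quotTensorEquivQuotSMul_mk_tmul, one_smul, map_zero,
      Submodule.Quotient.mk_eq_zero] at h2
    exact h2
  · intro h
    refine Submodule.smul_induction_on (p := fun z => pullStalk i M v z = 0) h (fun a ha y _ => ?_)
      (fun a b ha hb => by rw [map_add, ha, hb, add_zero])
    rw [pullStalk_smul, RingHom.mem_ker.1 ha, zero_smul]

variable {J : Ideal R}

theorem pullStalk_eq_zero_iff_base (v : Z) (hker : RingHom.ker (i.stalkMap v).hom = J.map (base R (i v)))
    (z : M.presheaf.stalk (i v)) :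
    pullStalk i M v z = 0 ↔ z ∈ J • (⊤ : Submodule R (M.presheaf.stalk (i v))) := by
  rw [pullStalk_eq_zero_iff, hker, mem_smul_top_iff]

end closed

/-- The kernel on local rings of the fibre over a quotient of the base. -/
theorem ker_stalkMap_fibre {Z : Scheme.{u}} {R₀ : Type u} [CommRing R₀] (μ : R →+* R₀) (hμ : Function.Surjective μ)
    {i : Z ⟶ P} {f₀ : Z ⟶ Spec (CommRingCat.of R₀)}
    (sq : IsPullback i f₀ (P ↘ Spec (CommRingCat.of R)) (Spec.map (CommRingCat.ofHom μ))) (v : Z) :
    RingHom.ker (i.stalkMap v).hom = (RingHom.ker μ).map (base R (i v)) := by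
  haveI : IsClosedImmersion (Spec.map (CommRingCat.ofHom μ)) := IsClosedImmersion.spec_of_surjective _ hμ
  rw [H8Props.NilThick.ker_stalkMap_eq sq v,
    H8Props.NilThick.ker_baseMap sq v ⊤ (isAffineOpen_top _) trivial, Ideal.map_map]
  have h : RingHom.ker ((Spec.map (CommRingCat.ofHom μ)).app ⊤).hom =
      (RingHom.ker μ).map (Scheme.ΓSpecIso (CommRingCat.of R)).inv.hom := by
    ext a
    have hn := Scheme.ΓSpecIso_naturality (CommRingCat.ofHom μ)
    have h1 : μ ((Scheme.ΓSpecIso (CommRingCat.of R)).hom a) =
        (Scheme.ΓSpecIso (CommRingCat.of R₀)).hom ((Spec.map (CommRingCat.ofHom μ)).app ⊤ a) :=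
      (ConcreteCategory.congr_hom hn a).symm
    rw [RingHom.mem_ker, Ideal.mem_map_iff_of_surjective _
      (ConcreteCategory.bijective_of_isIso (Scheme.ΓSpecIso (CommRingCat.of R)).inv).2]
    constructor
    · intro ha
      refine ⟨(Scheme.ΓSpecIso (CommRingCat.of R)).hom a, ?_, Iso.hom_inv_id_apply _ a⟩
      rw [RingHom.mem_ker, h1]
      erw [ha]
      exact map_zero _
    · rintro ⟨b, hb, rfl⟩
      rw [RingHom.mem_ker] at hb
      apply (Scheme.ΓSpecIso (CommRingCat.of R₀)).commRingCatIsoToRingEquiv.injective
      refine Eq.trans ?_ (map_zero _).symm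
      refine h1.symm.trans ?_
      rw [Iso.inv_hom_id_apply]
      exact hb
  rw [h, Ideal.map_map]
  congr 1
  refine RingHom.ext fun a => ?_
  show (P ↘ Spec (CommRingCat.of R)).stalkMap (i v) ((Spec (CommRingCat.of R)).presheaf.germ ⊤ _ trivial _) = _
  erw [Scheme.Hom.germ_stalkMap_apply]
  rfl

/-- Flatness over a local base at a point over the closed point. -/
theorem isFlatOverAt_iff [IsLocalRing R] [Subsingleton (PrimeSpectrum R)] (M : P.Modules) (v : P) :
    FlatMod.IsFlatOverAt (P ↘ Spec (CommRingCat.of R)) M v ↔ Module.Flat R (M.presheaf.stalk v) := by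
  let f := P ↘ Spec (CommRingCat.of R)
  letI := FlatMod.moduleStalkOver f M v
  show Module.Flat ((Spec (CommRingCat.of R)).presheaf.stalk (f v)) (M.presheaf.stalk v) ↔ _
  let g : R →+* (Spec (CommRingCat.of R)).presheaf.stalk (f v) :=
    (((Spec (CommRingCat.of R)).presheaf.germ ⊤ (f v) trivial).hom).comp
      (Scheme.ΓSpecIso (CommRingCat.of R)).inv.hom
  have hg : Function.Bijective g := by
    haveI : Subsingleton (Spec (CommRingCat.of R)) := inferInstanceAs (Subsingleton (PrimeSpectrum R))
    have key : ∀ (s : Spec (CommRingCat.of R)) (hs : s = IsLocalRing.closedPoint R),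
        Function.Bijective ((((Spec (CommRingCat.of R)).presheaf.germ ⊤ s trivial).hom).comp
          (Scheme.ΓSpecIso (CommRingCat.of R)).inv.hom) := by
      rintro s rfl
      have e : (Scheme.ΓSpecIso (CommRingCat.of R)).inv ≫
          (Spec (CommRingCat.of R)).presheaf.germ ⊤ (IsLocalRing.closedPoint R) trivial =
            (stalkClosedPointIso (CommRingCat.of R)).inv := by
        refine (cancel_mono (stalkClosedPointIso (CommRingCat.of R)).hom).1 ?_
        rw [Category.assoc, Iso.inv_hom_id]
        erw [germ_stalkClosedPointIso_hom]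
        exact Iso.inv_hom_id _
      rw [← CommRingCat.hom_comp, e]
      exact (stalkClosedPointIso (CommRingCat.of R)).commRingCatIsoToRingEquiv.symm.bijective
    exact key _ (Subsingleton.elim _ _)
  have hsm : ∀ a (z : M.presheaf.stalk v), g a • z = a • z := fun a z => by
    show (f.stalkMap v (g a)) • z = base R v a • z
    congr 1
    show f.stalkMap v ((Spec (CommRingCat.of R)).presheaf.germ ⊤ (f v) trivial _) = _
    erw [Scheme.Hom.germ_stalkMap_apply]
    rfl
  constructor
  · intro h
    letI := g.toAlgebra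
    haveI : IsScalarTower R ((Spec (CommRingCat.of R)).presheaf.stalk (f v)) (M.presheaf.stalk v) :=
      IsScalarTower.of_algebraMap_smul hsm
    haveI : Module.Flat R ((Spec (CommRingCat.of R)).presheaf.stalk (f v)) :=
      Module.Flat.of_linearEquiv (LinearEquiv.ofBijective (Algebra.linearMap R _) hg).symm
    exact Module.Flat.trans R ((Spec (CommRingCat.of R)).presheaf.stalk (f v)) _
  · intro h
    let e := RingEquiv.ofBijective g hg
    letI : Algebra ((Spec (CommRingCat.of R)).presheaf.stalk (f v)) R := e.symm.toRingHom.toAlgebra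
    haveI : IsScalarTower ((Spec (CommRingCat.of R)).presheaf.stalk (f v)) R (M.presheaf.stalk v) :=
      IsScalarTower.of_algebraMap_smul fun s z => by
        show e.symm s • z = s • z
        rw [← hsm, show g (e.symm s) = s from e.apply_symm_apply s]
    haveI : Module.Flat ((Spec (CommRingCat.of R)).presheaf.stalk (f v)) R :=
      Module.Flat.of_linearEquiv (LinearEquiv.ofBijective (Algebra.linearMap _ R) e.symm.bijective).symm
    exact Module.Flat.trans ((Spec (CommRingCat.of R)).presheaf.stalk (f v)) R _

end Groth.Agent.H24Quot
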