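import Groth.Prelude.Def_FGA
import Mathlib

/-!
# Pullback of families of quotients through kernels, and functoriality
-/

set_option autoImplicit false
set_option linter.style.haveILetI false
universe u
open CategoryTheory CategoryTheory.Limits AlgebraicGeometry

namespace Groth.Agent.H24Quot

section Subobjects

variable {C : Type*} [Category C] [Abelian C]

/-- A subobject is the kernel of the quotient by it. -/
theorem kernelSubobject_cokernel_π {E : C} (K : Subobject E) : kernelSubobject (cokernel.π K.arrow) = K := by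
  have h := (ShortComplex.mk K.arrow (cokernel.π K.arrow) (cokernel.condition _)).exact_iff_image_eq_kernel.1
    (ShortComplex.exact_of_g_is_cokernel _ (cokernelIsCokernel _))
  rw [← h]
  exact (imageSubobject_mono _).trans (Subobject.mk_arrow K)

/-- Equal kernels of epimorphisms give an isomorphism of the targets. -/
theorem exists_iso_of_kernelSubobject_eq {E F F' : C} (π : E ⟶ F) (π' : E ⟶ F') [Epi π] [Epi π']
    (h : kernelSubobject π = kernelSubobject π') : ∃ φ : F ≅ F', π ≫ φ.hom = π' := by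
  have h1 : kernel.ι π ≫ π' = 0 := by
    rw [← kernelSubobject_arrow' π, Category.assoc,
      ← Subobject.ofLE_arrow h.le, Category.assoc, kernelSubobject_arrow_comp, comp_zero, comp_zero]
  have h2 : kernel.ι π' ≫ π = 0 := by
    rw [← kernelSubobject_arrow' π', Category.assoc,
      ← Subobject.ofLE_arrow h.ge, Category.assoc, kernelSubobject_arrow_comp, comp_zero, comp_zero]
  refine ⟨⟨Abelian.epiDesc π π' h1, Abelian.epiDesc π' π h2, ?_, ?_⟩, Abelian.comp_epiDesc _ _ _⟩
  · rw [← cancel_epi π, Abelian.comp_epiDesc_assoc, Abelian.comp_epiDesc, Category.comp_id]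
  · rw [← cancel_epi π', Abelian.comp_epiDesc_assoc, Abelian.comp_epiDesc, Category.comp_id]

end Subobjects

variable {X S : Scheme.{u}} (f : X ⟶ S) (E : X.Modules) {T T' T'' : Over S}

/-- The pulled back quotient map. -/
noncomputable def pullQ (g : T' ⟶ T) {F : (PicF.XT f T).Modules} (π : FGA.ET f E T ⟶ F) :
    FGA.ET f E T' ⟶ (Scheme.Modules.pullback (PicF.XTmap f g)).obj F :=
  (FGA.ETiso f E g).inv ≫ (Scheme.Modules.pullback (PicF.XTmap f g)).map π

theorem epi_pullQ (g : T' ⟶ T) {F : (PicF.XT f T).Modules} (π : FGA.ET f E T ⟶ F) [Epi π] : Epi (pullQ f E g π) := by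
  haveI : PreservesColimitsOfSize.{0, 0} (Scheme.Modules.pullback (PicF.XTmap f g)) :=
    (Scheme.Modules.pullbackPushforwardAdjunction _).leftAdjoint_preservesColimits
  unfold pullQ
  infer_instance

/-- The pullback of a subobject is the kernel of the pulled back quotient. -/
theorem quotPull_eq (g : T' ⟶ T) {F : (PicF.XT f T).Modules} (π : FGA.ET f E T ⟶ F) [Epi π]
    (K : Subobject (FGA.ET f E T)) (hK : K = kernelSubobject π) :
    FGA.quotPull f E g K = kernelSubobject (pullQ f E g π) := by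
  subst hK
  let L := Scheme.Modules.pullback (PicF.XTmap f g)
  let adj := Scheme.Modules.pullbackPushforwardAdjunction (PicF.XTmap f g)
  haveI : L.Additive := adj.left_adjoint_additive
  haveI : PreservesColimitsOfSize.{0, 0} L := adj.leftAdjoint_preservesColimits
  let S₀ := ShortComplex.mk (kernelSubobject π).arrow π (kernelSubobject_arrow_comp π)
  have hS₀ : S₀.Exact := by
    rw [ShortComplex.exact_iff_image_eq_kernel]
    exact (imageSubobject_mono _).trans (Subobject.mk_arrow _)
  have h1 := hS₀.map_of_epi_of_preservesCokernel L inferInstance inferInstance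
  let S₁ := ShortComplex.mk (L.map (kernelSubobject π).arrow ≫ (FGA.ETiso f E g).hom) (pullQ f E g π)
    (by rw [pullQ, Category.assoc, Iso.hom_inv_id_assoc, ← L.map_comp, kernelSubobject_arrow_comp, L.map_zero])
  have h2 : S₁.Exact := (ShortComplex.exact_iff_of_iso
    (ShortComplex.isoMk (S₁ := S₀.map L) (S₂ := S₁) (Iso.refl _) (FGA.ETiso f E g) (Iso.refl _)
      (Category.id_comp _)
      ((Iso.hom_inv_id_assoc _ _).trans (Category.comp_id _).symm))).1 h1
  exact S₁.exact_iff_image_eq_kernel.1 h2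

theorem coher {P'' P' P Y : Scheme.{u}} (a : P'' ⟶ P') (b : P' ⟶ P) (c : P ⟶ Y) {ab : P'' ⟶ P} {c' : P' ⟶ Y}
    {c'' : P'' ⟶ Y} (h : a ≫ b = ab) (h₁ : b ≫ c = c') (h₂ : a ≫ c' = c'') (h₃ : ab ≫ c = c'') (M : Y.Modules) :
    ((Scheme.Modules.pullbackComp a b).app ((Scheme.Modules.pullback c).obj M) ≪≫
        (Scheme.Modules.pullbackCongr h).app _).hom ≫
      ((Scheme.Modules.pullbackComp ab c).app M ≪≫ (Scheme.Modules.pullbackCongr h₃).app M).hom =
    (Scheme.Modules.pullback a).map
        ((Scheme.Modules.pullbackComp b c).app M ≪≫ (Scheme.Modules.pullbackCongr h₁).app M).hom ≫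
      ((Scheme.Modules.pullbackComp a c').app M ≪≫ (Scheme.Modules.pullbackCongr h₂).app M).hom := by
  subst h h₁ h₂
  have e := congrArg (fun η => η.app M) (Scheme.Modules.pseudofunctor_associativity a b c)
  simp only [NatTrans.comp_app, Functor.whiskerRight_app, Functor.associator_hom_app, Functor.whiskerLeft_app,
    Category.id_comp, eqToHom_app] at e
  simp only [Scheme.Modules.pullbackCongr, eqToIso_refl, Iso.app_hom, Iso.trans_hom, Iso.refl_hom, NatTrans.id_app,
    Category.comp_id, eqToIso.hom, eqToHom_app]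
  have e2 := congrArg (fun t => (Scheme.Modules.pullback a).map ((Scheme.Modules.pullbackComp b c).hom.app M) ≫
    (Scheme.Modules.pullbackComp a (b ≫ c)).hom.app M ≫ t) e
  simp only [Iso.hom_inv_id_app_assoc, ← Functor.map_comp_assoc, Iso.hom_inv_id_app,
    CategoryTheory.Functor.map_id, Category.id_comp] at e2
  rw [reassoc_of% e2]
  simp

theorem XTmap_comp (g : T'' ⟶ T') (h : T' ⟶ T) :
    PicF.XTmap f g ≫ PicF.XTmap f h = PicF.XTmap f (g ≫ h) := by
  have hsnd : ∀ {U V : Over S} (u : U ⟶ V),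
      PicF.XTmap f u ≫ pullback.snd f V.hom = pullback.snd f U.hom ≫ u.left := fun u => pullback.lift_snd _ _ _
  apply pullback.hom_ext
  · rw [Category.assoc, FGA.XTmap_fst, FGA.XTmap_fst, FGA.XTmap_fst]
  · rw [Category.assoc, hsnd, ← Category.assoc, hsnd, Category.assoc, hsnd]
    rfl

theorem comp_natural {C₀ C₁ C₂ : Type*} [Category C₀] [Category C₁] [Category C₂] (L₂ : C₀ ⥤ C₁) (L₁ : C₁ ⥤ C₂)
    (L₃ : C₀ ⥤ C₂) (Φ : L₂ ⋙ L₁ ≅ L₃) {E F : C₀} {E' : C₁} {E'' : C₂} (eh : L₂.obj E ≅ E') (eg : L₁.obj E' ≅ E'')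
    (egh : L₃.obj E ≅ E'') (hc : Φ.hom.app E ≫ egh.hom = L₁.map eh.hom ≫ eg.hom) (π : E ⟶ F) :
    (eg.inv ≫ L₁.map (eh.inv ≫ L₂.map π)) ≫ Φ.hom.app F = egh.inv ≫ L₃.map π := by
  have hn := Φ.hom.naturality π
  simp only [Functor.comp_map] at hn
  rw [Functor.map_comp, Category.assoc, Category.assoc, hn, ← Category.assoc, ← Category.assoc]
  refine congrArg (· ≫ L₃.map π) ?_
  refine (cancel_mono egh.hom).1 ?_
  rw [Category.assoc, Category.assoc, hc, ← Functor.map_comp_assoc, Iso.inv_hom_id, CategoryTheory.Functor.map_id,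
    Category.id_comp, Iso.inv_hom_id, Iso.inv_hom_id]

theorem pullback_comp_natural {P'' P' P Y : Scheme.{u}} (a : P'' ⟶ P') (b : P' ⟶ P) (c : P ⟶ Y) {ab : P'' ⟶ P}
    {c' : P' ⟶ Y} {c'' : P'' ⟶ Y} (h : a ≫ b = ab) (h₁ : b ≫ c = c') (h₂ : a ≫ c' = c'') (h₃ : ab ≫ c = c'')
    (M : Y.Modules) {F : P.Modules} (π : (Scheme.Modules.pullback c).obj M ⟶ F) :
    ∃ φ : (Scheme.Modules.pullback a).obj ((Scheme.Modules.pullback b).obj F) ≅ (Scheme.Modules.pullback ab).obj F,
      (((Scheme.Modules.pullbackComp a c').app M ≪≫ (Scheme.Modules.pullbackCongr h₂).app M).inv ≫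
        (Scheme.Modules.pullback a).map
          (((Scheme.Modules.pullbackComp b c).app M ≪≫ (Scheme.Modules.pullbackCongr h₁).app M).inv ≫
            (Scheme.Modules.pullback b).map π)) ≫ φ.hom =
      ((Scheme.Modules.pullbackComp ab c).app M ≪≫ (Scheme.Modules.pullbackCongr h₃).app M).inv ≫
        (Scheme.Modules.pullback ab).map π := by
  refine ⟨(Scheme.Modules.pullbackComp a b ≪≫ Scheme.Modules.pullbackCongr h).app F, ?_⟩
  let e₁ : (Scheme.Modules.pullback b).obj ((Scheme.Modules.pullback c).obj M) ≅ (Scheme.Modules.pullback c').obj M :=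
    (Scheme.Modules.pullbackComp b c).app M ≪≫ (Scheme.Modules.pullbackCongr h₁).app M
  let e₂ : (Scheme.Modules.pullback a).obj ((Scheme.Modules.pullback c').obj M) ≅ (Scheme.Modules.pullback c'').obj M :=
    (Scheme.Modules.pullbackComp a c').app M ≪≫ (Scheme.Modules.pullbackCongr h₂).app M
  let e₃ : (Scheme.Modules.pullback ab).obj ((Scheme.Modules.pullback c).obj M) ≅ (Scheme.Modules.pullback c'').obj M :=
    (Scheme.Modules.pullbackComp ab c).app M ≪≫ (Scheme.Modules.pullbackCongr h₃).app M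
  show (e₂.inv ≫ (Scheme.Modules.pullback a).map (e₁.inv ≫ (Scheme.Modules.pullback b).map π)) ≫ _ =
    e₃.inv ≫ (Scheme.Modules.pullback ab).map π
  rw [Iso.app_hom]
  refine comp_natural (E := (Scheme.Modules.pullback c).obj M) (E' := (Scheme.Modules.pullback c').obj M)
      (E'' := (Scheme.Modules.pullback c'').obj M) (F := F) (Scheme.Modules.pullback b) (Scheme.Modules.pullback a) (Scheme.Modules.pullback ab) _
      e₁ e₂ e₃ ?_ π
  have hc := coher a b c h h₁ h₂ h₃ M
  simp only [e₁, e₂, e₃, Iso.trans_hom, Iso.app_hom, NatTrans.comp_app] at hc ⊢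
  exact hc

theorem ETiso_eq (g : T' ⟶ T) : FGA.ETiso f E g =
    (Scheme.Modules.pullbackComp (PicF.XTmap f g) (pullback.fst f T.hom)).app E ≪≫
      (Scheme.Modules.pullbackCongr (FGA.XTmap_fst f g)).app E := rfl

/-- The pulled back quotient maps compose. -/
theorem exists_iso_pullQ_comp (g : T'' ⟶ T') (h : T' ⟶ T) {F : (PicF.XT f T).Modules} (π : FGA.ET f E T ⟶ F) :
    ∃ φ : (Scheme.Modules.pullback (PicF.XTmap f g)).obj ((Scheme.Modules.pullback (PicF.XTmap f h)).obj F) ≅
        (Scheme.Modules.pullback (PicF.XTmap f (g ≫ h))).obj F,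
      pullQ f E g (pullQ f E h π) ≫ φ.hom = pullQ f E (g ≫ h) π := by
  rw [pullQ, pullQ, pullQ, ETiso_eq, ETiso_eq, ETiso_eq]
  exact pullback_comp_natural (PicF.XTmap f g) (PicF.XTmap f h) (pullback.fst f T.hom) (XTmap_comp f g h)
    (FGA.XTmap_fst f h) (FGA.XTmap_fst f g) (FGA.XTmap_fst f (g ≫ h)) E π

/-- Functoriality of the pullback of subobjects. -/
theorem quotPull_comp (g : T'' ⟶ T') (h : T' ⟶ T) (K : Subobject (FGA.ET f E T)) :
    FGA.quotPull f E g (FGA.quotPull f E h K) = FGA.quotPull f E (g ≫ h) K := by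
  have hK := (kernelSubobject_cokernel_π K).symm
  haveI := epi_pullQ f E h (cokernel.π K.arrow)
  obtain ⟨φ, hφ⟩ := exists_iso_pullQ_comp f E g h (cokernel.π K.arrow)
  rw [quotPull_eq f E (g ≫ h) _ K hK, ← hφ, kernelSubobject_comp_mono,
    quotPull_eq f E g _ _ (quotPull_eq f E h _ K hK)]

end Groth.Agent.H24Quot
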