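import Groth.Agent.H24Quot.Change

/-!
# Members over the dual numbers and retractions on the closed fibre
-/

set_option autoImplicit false
set_option linter.style.haveILetI false
universe u
open CategoryTheory CategoryTheory.Limits AlgebraicGeometry IsLocalRing ArtFun ArtFun.Art
open Groth.Agent.H06Mod

namespace Groth.Agent.H24Quot

attribute [local instance] stkModule overArt over0

variable {k : Type u} [Field k]

/-- The element `ε`. -/
def epsD : dual k k := (TrivSqZeroExt.inr (1 : k) : TrivSqZeroExt k k)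

theorem res_epsD : (dual k k).res (epsD (k := k)) = 0 := TrivSqZeroExt.fst_inr k (1 : k)

theorem epsD_mem : (epsD (k := k)) ∈ maximalIdeal (dual k k) := ((dual k k).mem_maximalIdeal_iff _).2 res_epsD

theorem eq_inl_mul_inr (j : TrivSqZeroExt k k) (hj : j.fst = 0) :
    j = TrivSqZeroExt.inl j.snd * TrivSqZeroExt.inr (1 : k) := by
  refine TrivSqZeroExt.ext ?_ ?_
  · rw [TrivSqZeroExt.fst_mul, TrivSqZeroExt.fst_inr, mul_zero, hj]
  · rw [TrivSqZeroExt.snd_mul, TrivSqZeroExt.fst_inl, TrivSqZeroExt.snd_inr, TrivSqZeroExt.fst_inr]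
    simp

theorem fst_eq_zero_of_mul_inr (a : TrivSqZeroExt k k) (h : a * TrivSqZeroExt.inr (1 : k) = 0) : a.fst = 0 := by
  have h := congrArg TrivSqZeroExt.snd h
  rw [TrivSqZeroExt.snd_mul, TrivSqZeroExt.snd_inr, TrivSqZeroExt.fst_inr, TrivSqZeroExt.snd_zero] at h
  simpa using h

theorem eq_algebraMap_mul (j : dual k k) (hj : (dual k k).res j = 0) :
    ∃ c : k, j = algebraMap k (dual k k) c * epsD :=
  ⟨TrivSqZeroExt.snd (j : TrivSqZeroExt k k), eq_inl_mul_inr j hj⟩

theorem span_epsD : maximalIdeal (dual k k) ≤ Ideal.span (Set.range fun _ : Fin 1 => (epsD (k := k))) := fun j hj => by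
  obtain ⟨c, rfl⟩ := eq_algebraMap_mul j (((dual k k).mem_maximalIdeal_iff j).1 hj)
  exact Ideal.mul_mem_left _ _ (Ideal.subset_span ⟨0, rfl⟩)

theorem indep_epsD (c : Fin 1 → dual k k) (hc : ∑ l, c l * epsD = 0) (l : Fin 1) : c l ∈ maximalIdeal (dual k k) := by
  rw [Fin.sum_univ_one] at hc
  rw [Subsingleton.elim l 0]
  refine ((dual k k).mem_maximalIdeal_iff _).2 ?_
  exact fst_eq_zero_of_mul_inr _ hc

theorem mul_epsD (a : dual k k) (ha : a ∈ maximalIdeal (dual k k)) (j : dual k k)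
    (hj : j ∈ RingHom.ker (toBase (dual k k)).toAlgHom.toRingHom) : a * j = 0 := by
  obtain ⟨c, rfl⟩ := eq_algebraMap_mul j hj
  obtain ⟨d, rfl⟩ := eq_algebraMap_mul a (((dual k k).mem_maximalIdeal_iff a).1 ha)
  have h0 : (epsD (k := k)) * (epsD (k := k)) = 0 := TrivSqZeroExt.inr_mul_inr k (1 : k) (1 : k)
  rw [mul_mul_mul_comm, h0, mul_zero]

variable {X : Scheme.{u}} (x : X ⟶ specPt k) {E : X.Modules} (K₀ : FGA.QuotSet x E (sp (Art.base k k)))

/-- A retraction vanishing on a member over the dual numbers. -/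
def Adapted (K : QuotDef x K₀ (dual k k))
    (r : (Scheme.Modules.pullback (PicF.XTmap x (gm (toBase (dual k k))))).obj
      (kernel (rho x E (toBase (dual k k)) K₀)) ⟶ cokernel K₀.1.arrow) : Prop :=
  eps x K₀ epsD epsD_mem ≫ r = 𝟙 _ ∧
    (Scheme.Modules.pullback (PicF.XTmap x (gm (toBase (dual k k))))).map (kap x K₀ (dual k k) K) ≫ r = 0

variable {x K₀}

theorem adapted_unique {K : QuotDef x K₀ (dual k k)}
    {r r' : (Scheme.Modules.pullback (PicF.XTmap x (gm (toBase (dual k k))))).obj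
      (kernel (rho x E (toBase (dual k k)) K₀)) ⟶ cokernel K₀.1.arrow}
    (h : Adapted x K₀ K r) (h' : Adapted x K₀ K r') : r = r' := by
  rw [← sub_eq_zero]
  refine eq_zero_of_adapted x K₀ (dual k k) K (fun _ : Fin 1 => epsD) (fun _ => epsD_mem) span_epsD _
    (fun _ => ?_) ?_
  · rw [Preadditive.comp_sub, h.1, h'.1, sub_self]
  · rw [Preadditive.comp_sub, h.2, h'.2, sub_self]

section bridge

variable {C : Type*} [Category C] {Q G K : C}

theorem retraction_to_adapted (c : G ⟶ Q) [IsIso c] {ε ε' : G ⟶ K} (hε : ε' = ε) (r₁ : K ⟶ G) (h : ε ≫ r₁ = 𝟙 G)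
    {e : Q ⟶ K} (he : e = inv c ≫ ε') : e ≫ r₁ ≫ c = 𝟙 Q := by
  rw [he, hε, Category.assoc, reassoc_of% h, IsIso.inv_hom_id]

theorem adapted_to_retraction (c : G ⟶ Q) [IsIso c] {ε ε' : G ⟶ K} (hε : ε = ε') {e : Q ⟶ K} (he : e = inv c ≫ ε')
    (r : K ⟶ Q) (h : e ≫ r = 𝟙 Q) : ε ≫ r ≫ inv c = 𝟙 G := by
  rw [hε, ← IsIso.hom_inv_id c, ← cancel_epi (inv c), ← Category.assoc, ← he, reassoc_of% h,
    IsIso.hom_inv_id, Category.comp_id]

end bridge

variable (x K₀)

theorem map_kap_comp_eq_zero {B : Art k k} (K : QuotDef x K₀ B)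
    (r : (Scheme.Modules.pullback (PicF.XTmap x (gm (toBase B)))).obj (kernel (rho x E (toBase B) K₀)) ⟶
      (Scheme.Modules.pullback (PicF.XTmap x (gm (toBase B)))).obj (Gq x E (toBase B) K₀))
    (h : ∀ (v : PicF.XT x (sp (Art.base k k)))
      (q : (kernel (rho x E (toBase B) K₀)).presheaf.stalk (PicF.XTmap x (gm (toBase B)) v)),
      stalkLin (cokernel.π K.1.1.arrow) _ (stalkLin (kernel.ι (rho x E (toBase B) K₀)) _ q) = 0 →
        stalkLin r v (pullStalk (PicF.XTmap x (gm (toBase B))) (kernel (rho x E (toBase B) K₀)) v q) = 0) :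
    (Scheme.Modules.pullback (PicF.XTmap x (gm (toBase B)))).map (kap x K₀ B K) ≫ r = 0 := by
  haveI := isClosedImmersion_i0 x B
  refine (H8Props.FunDescent.eq_zero_iff _).2 fun v => LinearMap.ext fun z => ?_
  obtain ⟨w, rfl⟩ := pullStalk_surjective (PicF.XTmap x (gm (toBase B))) _ v z
  rw [stalkLin_comp, stalkLin_pullback, LinearMap.zero_apply]
  refine h v _ ?_
  rw [← stalkLin_comp (kap x K₀ B K) (kernel.ι (rho x E (toBase B) K₀)), kap_ι, ← stalkLin_comp,
    cokernel.condition]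
  exact stalkLin_zero _ _

/-- The retraction of a member over the dual numbers. -/
theorem exists_adapted_stalk (K : QuotDef x K₀ (dual k k)) :
    ∃ r₁ : (Scheme.Modules.pullback (PicF.XTmap x (gm (toBase (dual k k))))).obj
        (kernel (rho x E (toBase (dual k k)) K₀)) ⟶
        (Scheme.Modules.pullback (PicF.XTmap x (gm (toBase (dual k k))))).obj (Gq x E (toBase (dual k k)) K₀),
      Adapted x K₀ K (r₁ ≫ cou (PicF.XTmap x (gm (toBase (dual k k)))) (cokernel K₀.1.arrow)) ∧
      ∀ (y : PicF.XT x (sp (dual k k))) (e : (FGA.ET x E (sp (dual k k))).presheaf.stalk y),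
        stalkLin (cokernel.π K.1.1.arrow) y e = 0 ↔ ∃ (v : PicF.XT x (sp (Art.base k k)))
          (_ : PicF.XTmap x (gm (toBase (dual k k))) v = y) (q : (kernel (rho x E (toBase (dual k k)) K₀)).presheaf.stalk
            (PicF.XTmap x (gm (toBase (dual k k))) v)),
          HEq e (stalkLin (kernel.ι (rho x E (toBase (dual k k)) K₀)) (PicF.XTmap x (gm (toBase (dual k k))) v) q) ∧
            stalkLin r₁ v (pullStalk (PicF.XTmap x (gm (toBase (dual k k))))
              (kernel (rho x E (toBase (dual k k)) K₀)) v q) = 0 := by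
  haveI := isClosedImmersion_i0 x (dual k k)
  haveI := epi_rho0 x K₀ (dual k k)
  haveI := isIso_cou0 x K₀ (dual k k)
  obtain ⟨r₁, hr, hr'⟩ := exists_retraction_of_lift x (toBase (dual k k)) (dual k k).res_surjective K₀ K.1 K.2
    (t := fun _ => epsD) (fun _ => res_epsD (k := k)) (fun _ => epsD_mem)
    (fun a ha => span_epsD (((dual k k).mem_maximalIdeal_iff a).2 ha)) indep_epsD mul_epsD
  refine ⟨r₁, ⟨retraction_to_adapted _ rfl r₁ hr (by rw [eps]), ?_⟩, hr'⟩
  have h0 : (Scheme.Modules.pullback (PicF.XTmap x (gm (toBase (dual k k))))).map (kap x K₀ (dual k k) K) ≫ r₁ = 0 := by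
    refine map_kap_comp_eq_zero x K₀ K r₁ fun v q hq => ?_
    obtain ⟨v', hv, q', hq', h0⟩ := (hr' _ _).1 hq
    obtain rfl : v' = v := (PicF.XTmap x (gm (toBase (dual k k)))).isClosedEmbedding.injective hv
    rw [show q = q' from (H8Props.FunDescent.mono_iff (kernel.ι (rho x E (toBase (dual k k)) K₀))).1 inferInstance _
      (eq_of_heq hq')]
    exact h0
  rw [← Category.assoc, h0, zero_comp]

/-- The retraction determines the member. -/
theorem eq_of_adapted {K K' : QuotDef x K₀ (dual k k)}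
    {r : (Scheme.Modules.pullback (PicF.XTmap x (gm (toBase (dual k k))))).obj
      (kernel (rho x E (toBase (dual k k)) K₀)) ⟶ cokernel K₀.1.arrow}
    (h : Adapted x K₀ K r) (h' : Adapted x K₀ K' r) : K = K' := by
  haveI := isIso_cou0 x K₀ (dual k k)
  obtain ⟨r₁, hr₁, hc⟩ := exists_adapted_stalk x K₀ K
  obtain ⟨r₂, hr₂, hc'⟩ := exists_adapted_stalk x K₀ K'
  have e : r₁ = r₂ := (cancel_mono (cou (PicF.XTmap x (gm (toBase (dual k k)))) (cokernel K₀.1.arrow))).1
    ((adapted_unique hr₁ h).trans (adapted_unique hr₂ h').symm)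
  subst e
  refine quotDef_ext x K₀ ?_
  rw [← kernelSubobject_cokernel_π K.1.1, ← kernelSubobject_cokernel_π K'.1.1]
  exact kernelSubobject_eq_of_stalk _ _ fun y e => (hc y e).trans (hc' y e).symm

/-- Every retraction comes from a member. -/
theorem exists_member_adapted [LocallyOfFiniteType x] (hE : Coh.IsCoh E)
    (r : (Scheme.Modules.pullback (PicF.XTmap x (gm (toBase (dual k k))))).obj
      (kernel (rho x E (toBase (dual k k)) K₀)) ⟶ cokernel K₀.1.arrow)
    (h : eps x K₀ epsD epsD_mem ≫ r = 𝟙 _) : ∃ K : QuotDef x K₀ (dual k k), Adapted x K₀ K r := by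
  haveI := isClosedImmersion_i0 x (dual k k)
  haveI := epi_rho0 x K₀ (dual k k)
  haveI := isIso_cou0 x K₀ (dual k k)
  obtain ⟨K', hK', hst⟩ := exists_member_of_retraction x (toBase (dual k k)) hE (dual k k).res_surjective K₀
    (t := fun _ => epsD) (fun _ => res_epsD (k := k)) (fun _ => epsD_mem)
    (fun a ha => span_epsD (((dual k k).mem_maximalIdeal_iff a).2 ha)) mul_epsD
    (r ≫ inv (cou (PicF.XTmap x (gm (toBase (dual k k)))) (cokernel K₀.1.arrow)))
    (adapted_to_retraction _ rfl (by rw [eps]) r h)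
  refine ⟨⟨K', hK'⟩, h, ?_⟩
  rw [← cancel_mono (inv (cou (PicF.XTmap x (gm (toBase (dual k k)))) (cokernel K₀.1.arrow))), zero_comp, Category.assoc]
  exact map_kap_comp_eq_zero x K₀ ⟨K', hK'⟩ _ hst

end Groth.Agent.H24Quot
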