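import Groth.Agent.H28Def.Split
import Mathlib.RingTheory.Flat.EquationalCriterion
import Mathlib.LinearAlgebra.TensorProduct.Quotient

/-!
# Relations in modules flat modulo an ideal, for lifting flat quotients over small extensions
-/

set_option autoImplicit false
set_option linter.style.haveILetI false
universe u
open IsLocalRing
open scoped TensorProduct

namespace Groth.Agent.H24Quot

variable {R : Type u} [CommRing R] {N : Type u} [AddCommGroup N] [Module R N]

variable (N) in
/-- Every finite system of relations in the module is trivial modulo the ideal. -/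
def RelTriv (J : Ideal R) : Prop :=
  ∀ (r l : ℕ) (c : Fin r → Fin l → R) (g : Fin l → N), (∀ i, ∑ a, c i a • g a = 0) →
    ∃ (m : ℕ) (δ : Fin l → Fin m → R) (h : Fin m → N),
      (∀ a, g a = ∑ b, δ a b • h b) ∧ ∀ i b, ∑ a, c i a * δ a b ∈ J

/-- Flat modules over a quotient ring. -/
theorem relTriv_of_flat {A : Type u} [CommRing A] [Module A N] [Module.Flat A N] (μ : R →+* A)
    (hμ : Function.Surjective μ) (h : ∀ (c : R) (g : N), c • g = μ c • g) : RelTriv N (RingHom.ker μ) := by
  intro r l c g hg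
  let x : (Fin l → A) →ₗ[A] N := Fintype.linearCombination A g
  let f : (Fin r → A) →ₗ[A] (Fin l → A) := Fintype.linearCombination A fun i a => μ (c i a)
  have hxf : x ∘ₗ f = 0 := by
    refine LinearMap.ext fun v => ?_
    simp only [x, f, LinearMap.comp_apply, Fintype.linearCombination_apply, LinearMap.zero_apply, Finset.sum_apply,
      Pi.smul_apply, smul_eq_mul, Finset.sum_smul, mul_smul]
    rw [Finset.sum_comm]
    refine Finset.sum_eq_zero fun i _ => ?_
    rw [← Finset.smul_sum]
    simp only [← h, hg i, smul_zero]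
  obtain ⟨m, a, y, hxy, haf⟩ := Module.Flat.exists_factorization_of_comp_eq_zero_of_free hxf
  choose δ hδ using fun j b => hμ (a (Pi.single j 1) b)
  refine ⟨m, δ, fun b => y (Finsupp.single b 1), fun j => ?_, fun i b => ?_⟩
  · have h1 := LinearMap.congr_fun hxy (Pi.single j 1)
    simp only [x, Fintype.linearCombination_apply_single, LinearMap.comp_apply, one_smul] at h1
    rw [h1]
    conv_lhs => rw [← Finsupp.univ_sum_single (a (Pi.single j 1)), map_sum]
    refine Finset.sum_congr rfl fun b _ => ?_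
    rw [← Finsupp.smul_single_one, map_smul, ← hδ, ← h]
  · have h1 := DFunLike.congr_fun (LinearMap.congr_fun haf (Pi.single i 1)) b
    simp only [f, LinearMap.comp_apply, Fintype.linearCombination_apply_single, one_smul, LinearMap.zero_apply,
      Finsupp.zero_apply] at h1
    rw [RingHom.mem_ker, map_sum, ← h1, pi_eq_sum_univ' (fun j => μ (c i j)), map_sum, Finsupp.finsetSum_apply]
    refine Finset.sum_congr rfl fun j _ => ?_
    rw [map_mul, hδ, map_smul, Finsupp.smul_apply, smul_eq_mul]

variable [IsLocalRing R] {M : Type u} [AddCommGroup M] [Module R M] {J : Ideal R} {n : ℕ} {t : Fin n → R}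

/-- A member of the kernel divisible by the maximal ideal. -/
theorem mem_sup_of_mem_maximal_smul (φ : M →ₗ[R] N) (hφ : Function.Surjective φ) (hN : RelTriv N J)
    {q : M} (hq : φ q = 0) (hqm : q ∈ maximalIdeal R • (⊤ : Submodule R M)) :
    q ∈ J • (⊤ : Submodule R M) ⊔ maximalIdeal R • LinearMap.ker φ := by
  obtain ⟨r, c, w, hc, rfl⟩ : ∃ (r : ℕ) (c : Fin r → R) (w : Fin r → M),
      (∀ i, c i ∈ maximalIdeal R) ∧ q = ∑ i, c i • w i := by
    refine Submodule.smul_induction_on (p := fun q => ∃ (r : ℕ) (c : Fin r → R) (w : Fin r → M),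
      (∀ i, c i ∈ maximalIdeal R) ∧ q = ∑ i, c i • w i) hqm (fun a ha y _ => ⟨1, fun _ => a, fun _ => y,
        fun _ => ha, by simp⟩) ?_
    rintro u v ⟨r, c, w, hc, rfl⟩ ⟨r', c', w', hc', rfl⟩
    refine ⟨r + r', Fin.append c c', Fin.append w w', fun j => ?_, ?_⟩
    · induction j using Fin.addCases <;> simp [hc, hc']
    · rw [Fin.sum_univ_add]
      simp
  obtain ⟨m, δ, h, hg, hJ⟩ := hN 1 r (fun _ => c) (fun i => φ (w i)) (fun _ => by
    rw [← hq, map_sum]
    simp only [map_smul])
  choose h' hh' using fun b => hφ (h b)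
  have hk : ∀ i, w i - ∑ b, δ i b • h' b ∈ LinearMap.ker φ := fun i => by
    simp only [LinearMap.mem_ker, map_sub, map_sum, map_smul, hh', ← hg, sub_self]
  have e : ∑ i, c i • w i = ∑ b, (∑ i, c i * δ i b) • h' b + ∑ i, c i • (w i - ∑ b, δ i b • h' b) := by
    simp only [smul_sub, Finset.smul_sum, Finset.sum_sub_distrib, smul_smul, Finset.sum_smul]
    rw [Finset.sum_comm]
    abel
  rw [e]
  exact add_mem (Submodule.mem_sup_left (Submodule.sum_mem _ fun b _ =>
      Submodule.smul_mem_smul (hJ 0 b) Submodule.mem_top))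
    (Submodule.mem_sup_right (Submodule.sum_mem _ fun i _ => Submodule.smul_mem_smul (hc i) (hk i)))

variable (hm : ∀ a ∈ maximalIdeal R, ∀ j ∈ J, a * j = 0)
  (hind : ∀ c : Fin n → R, ∑ l, c l * t l = 0 → ∀ l, c l ∈ maximalIdeal R)

include hm hind

/-- The coefficients of a member of the maximal ideal times the kernel. -/
theorem apply_mem_maximal_smul [Module.Flat R M] (φ : M →ₗ[R] N) (hN : RelTriv N J) {e : Fin n → M}
    (he : ∑ l, t l • e l ∈ maximalIdeal R • LinearMap.ker φ) (l : Fin n) :
    φ (e l) ∈ maximalIdeal R • (⊤ : Submodule R N) := by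
  obtain ⟨r, c, q, hc, hq, hsum⟩ : ∃ (r : ℕ) (c : Fin r → R) (q : Fin r → M),
      (∀ i, c i ∈ maximalIdeal R) ∧ (∀ i, φ (q i) = 0) ∧ ∑ l, t l • e l = ∑ i, c i • q i := by
    refine Submodule.smul_induction_on (p := fun z => ∃ (r : ℕ) (c : Fin r → R) (q : Fin r → M),
      (∀ i, c i ∈ maximalIdeal R) ∧ (∀ i, φ (q i) = 0) ∧ z = ∑ i, c i • q i) he (fun a ha y hy =>
        ⟨1, fun _ => a, fun _ => y, fun _ => ha, fun _ => hy, by simp⟩) ?_
    rintro u v ⟨r, c, w, hc, hw, rfl⟩ ⟨r', c', w', hc', hw', rfl⟩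
    refine ⟨r + r', Fin.append c c', Fin.append w w', fun j => ?_, fun j => ?_, ?_⟩
    · induction j using Fin.addCases <;> simp [hc, hc']
    · induction j using Fin.addCases <;> simp [hw, hw']
    · rw [Fin.sum_univ_add]
      simp
  have hrel : ∑ a, (Fin.append t fun i => -c i) a • (Fin.append e q) a = 0 := by
    rw [Fin.sum_univ_add]
    simp [hsum]
  obtain ⟨m, α, w, hw, hα⟩ := Module.Flat.isTrivialRelation_of_sum_smul_eq_zero hrel
  obtain ⟨m', δ, h, hg, hJ⟩ := hN r m (fun i b => α (Fin.natAdd n i) b) (fun b => φ (w b)) (fun i => by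
    have h1 := congrArg φ (hw (Fin.natAdd n i))
    rw [Fin.append_right, hq] at h1
    simpa [map_sum] using h1.symm)
  have hzero : ∀ b', ∑ l, t l * (∑ b, α (Fin.castAdd r l) b * δ b b') = 0 := fun b' => by
    have h2 : ∀ b, ∑ l, t l * α (Fin.castAdd r l) b = ∑ i, c i * α (Fin.natAdd n i) b := fun b => by
      have := hα b
      rw [Fin.sum_univ_add] at this
      simp only [Fin.append_left, Fin.append_right, neg_mul, Finset.sum_neg_distrib] at this
      exact sub_eq_zero.1 (by rw [sub_eq_add_neg]; exact this)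
    simp only [Finset.mul_sum, ← mul_assoc]
    rw [Finset.sum_comm]
    simp only [← Finset.sum_mul, h2]
    simp only [Finset.sum_mul, mul_assoc]
    rw [Finset.sum_comm]
    simp only [← Finset.mul_sum]
    exact Finset.sum_eq_zero fun i _ => hm _ (hc i) _ (hJ i b')
  have hmem := fun b' => hind (fun l => ∑ b, α (Fin.castAdd r l) b * δ b b')
    (by rw [← hzero b']; exact Finset.sum_congr rfl fun _ _ => mul_comm _ _)
  have hel : φ (e l) = ∑ b', (∑ b, α (Fin.castAdd r l) b * δ b b') • h b' := by
    have h1 := congrArg φ (hw (Fin.castAdd r l))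
    rw [Fin.append_left, map_sum] at h1
    rw [h1]
    simp only [map_smul, hg, Finset.smul_sum, smul_smul, Finset.sum_smul]
    rw [Finset.sum_comm]
  rw [hel]
  exact Submodule.sum_mem _ fun b' _ => Submodule.smul_mem_smul (hmem b' l) Submodule.mem_top

omit hind

/-- The lifting criterion for flatness. -/
theorem flat_of_relTriv [IsArtinianRing R] (hJ : J ≠ ⊤) (hspan : J ≤ Ideal.span (Set.range t))
    (ht : ∀ l, t l ∈ J) (φ : M →ₗ[R] N) (hφ : Function.Surjective φ)
    (hker : LinearMap.ker φ ≤ J • (⊤ : Submodule R M)) (hkill : ∀ j ∈ J, ∀ g : N, j • g = 0) (hN : RelTriv N J)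
    (hdiv : ∀ e : Fin n → M, ∑ l, t l • e l = 0 → ∀ l, e l ∈ maximalIdeal R • (⊤ : Submodule R M)) :
    Module.Flat R M := by
  have h₁ : Function.Injective (J.subtype.lTensor M) := by
    rw [injective_iff_map_eq_zero]
    intro z hz
    obtain ⟨e, rfl⟩ : ∃ e : Fin n → M, z = ∑ l, e l ⊗ₜ[R] (⟨t l, ht l⟩ : J) := by
      clear hz
      induction z using TensorProduct.induction_on with
      | zero => exact ⟨0, by simp⟩
      | tmul y j =>
        obtain ⟨c, hc⟩ := Ideal.mem_span_range_iff_exists_fun.1 (hspan j.2)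
        refine ⟨fun l => c l • y, ?_⟩
        have : j = ∑ l, c l • (⟨t l, ht l⟩ : J) := Subtype.ext (by simp [← hc])
        rw [this, TensorProduct.tmul_sum]
        exact Finset.sum_congr rfl fun l _ => by rw [TensorProduct.smul_tmul]
      | add a b ha hb =>
        obtain ⟨e, rfl⟩ := ha
        obtain ⟨e', rfl⟩ := hb
        exact ⟨e + e', by simp [TensorProduct.add_tmul, Finset.sum_add_distrib]⟩
    have h0 : ∑ l, t l • e l = 0 := by
      have := congrArg (TensorProduct.rid R M) hz
      simpa [map_sum] using this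
    refine Finset.sum_eq_zero fun l _ => ?_
    refine Submodule.smul_induction_on (p := fun y => y ⊗ₜ[R] (⟨t l, ht l⟩ : J) = 0) (hdiv e h0 l)
      (fun a ha y _ => ?_) (fun u v hu hv => by rw [TensorProduct.add_tmul, hu, hv, add_zero])
    rw [TensorProduct.smul_tmul, show a • (⟨t l, ht l⟩ : J) = 0 from Subtype.ext (hm a ha _ (ht l)),
      TensorProduct.tmul_zero]
  have hk : LinearMap.ker φ = J • (⊤ : Submodule R M) := le_antisymm hker
    (Submodule.smul_le.2 fun j hj y _ => by rw [LinearMap.mem_ker, map_smul, hkill j hj])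
  let E : ((R ⧸ J) ⊗[R] M) ≃ₗ[R] N :=
    (TensorProduct.quotTensorEquivQuotSMul M J).trans
      ((Submodule.quotEquivOfEq _ _ hk.symm).trans (φ.quotKerEquivOfSurjective hφ))
  haveI : Module.Flat (R ⧸ J) ((R ⧸ J) ⊗[R] M) := by
    refine Module.Flat.iff_forall_isTrivialRelation.2 fun {l f z} hrel => ?_
    choose f' hf' using fun a => Ideal.Quotient.mk_surjective (f a)
    have hmk : ∀ (a : R) (y : (R ⧸ J) ⊗[R] M), Ideal.Quotient.mk J a • y = a • y := fun a y => by
      rw [← Ideal.Quotient.algebraMap_eq, algebraMap_smul]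
    obtain ⟨m, δ, h, hg, hJ'⟩ := hN 1 l (fun _ => f') (fun a => E (z a)) (fun _ => by
      rw [← map_zero E, ← hrel, map_sum]
      exact Finset.sum_congr rfl fun a _ => by rw [← hf', hmk, map_smul])
    refine ⟨m, fun a b => Ideal.Quotient.mk J (δ a b), fun b => E.symm (h b), fun a => ?_, fun b => ?_⟩
    · apply E.injective
      rw [hg, map_sum]
      exact Finset.sum_congr rfl fun b _ => by rw [hmk, map_smul, LinearEquiv.apply_symm_apply]
    · simp only [← hf', ← map_mul, ← map_sum]
      exact Ideal.Quotient.eq_zero_iff_mem.2 (hJ' 0 b)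
  exact H28Def.flat_of_lTensor J hJ h₁

end Groth.Agent.H24Quot
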