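import Groth.Agent.H24Quot.Fibre

/-!
# Change of the square-zero thickening
-/

set_option autoImplicit false
set_option linter.style.haveILetI false
universe u
open CategoryTheory CategoryTheory.Limits AlgebraicGeometry IsLocalRing ArtFun ArtFun.Art
open Groth.Agent.H06Mod

namespace Groth.Agent.H24Quot

attribute [local instance] stkModule overArt over0

section abstract

universe v₁ v₂ v₃ u₁ u₂ u₃

variable {C₀ : Type u₁} [Category.{v₁} C₀] {C₁ : Type u₂} [Category.{v₂} C₁] {C₂ : Type u₃} [Category.{v₃} C₂]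
  (F : C₀ ⥤ C₁) (G : C₁ ⥤ C₂) {H : C₀ ⥤ C₂} (Φ : F ⋙ G ≅ H)

/-- A component of an isomorphism out of a composite functor. -/
def splitIso (M : C₀) : G.obj (F.obj M) ≅ H.obj M := Φ.app M

/-- A component of a composed isomorphism out of a composite functor. -/
def splitTrans {H' : C₀ ⥤ C₂} (Φ₁ : F ⋙ G ≅ H) (Φ₂ : H ≅ H') (M : C₀) : G.obj (F.obj M) ≅ H'.obj M :=
  Φ₁.app M ≪≫ Φ₂.app M

theorem splitTrans_hom {H' : C₀ ⥤ C₂} (Φ₁ : F ⋙ G ≅ H) (Φ₂ : H ≅ H') (M : C₀) :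
    (splitTrans F G Φ₁ Φ₂ M).hom = (Φ₁.hom.app M ≫ Φ₂.hom.app M) :=
  rfl

theorem splitIso_inv_map {M N : C₀} (φ : M ⟶ N) :
    (splitIso F G Φ M).inv ≫ G.map (F.map φ) = H.map φ ≫ (splitIso F G Φ N).inv :=
  (Φ.inv.naturality φ).symm

theorem splitIso_hom_comp (M : C₀) {M' : C₁} {M'' : C₂} (eh : F.obj M ⟶ M') (eg : G.obj M' ⟶ M'')
    (egh : H.obj M ⟶ M'') (hc : Φ.hom.app M ≫ egh = G.map eh ≫ eg) :
    (splitIso F G Φ M).hom ≫ egh = G.map eh ≫ eg :=
  hc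

end abstract

theorem coher_split {P'' P' P Y : Scheme.{u}} (a : P'' ⟶ P') (b : P' ⟶ P) (c : P ⟶ Y) {ab : P'' ⟶ P} {c' : P' ⟶ Y}
    {c'' : P'' ⟶ Y} (h : a ≫ b = ab) (h₁ : b ≫ c = c') (h₂ : a ≫ c' = c'') (h₃ : ab ≫ c = c'') (M : Y.Modules) :
    (splitIso (Scheme.Modules.pullback b) (Scheme.Modules.pullback a)
        (Scheme.Modules.pullbackComp a b ≪≫ Scheme.Modules.pullbackCongr h) ((Scheme.Modules.pullback c).obj M)).hom ≫
      (splitTrans (Scheme.Modules.pullback c) (Scheme.Modules.pullback ab) (Scheme.Modules.pullbackComp ab c)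
        (Scheme.Modules.pullbackCongr h₃) M).hom =
    (Scheme.Modules.pullback a).map
        (splitTrans (Scheme.Modules.pullback c) (Scheme.Modules.pullback b) (Scheme.Modules.pullbackComp b c)
          (Scheme.Modules.pullbackCongr h₁) M).hom ≫
      (splitTrans (Scheme.Modules.pullback c') (Scheme.Modules.pullback a) (Scheme.Modules.pullbackComp a c')
        (Scheme.Modules.pullbackCongr h₂) M).hom := by
  refine splitIso_hom_comp (Scheme.Modules.pullback b) (Scheme.Modules.pullback a)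
    (Scheme.Modules.pullbackComp a b ≪≫ Scheme.Modules.pullbackCongr h) ((Scheme.Modules.pullback c).obj M)
    (M' := (Scheme.Modules.pullback c').obj M) (M'' := (Scheme.Modules.pullback c'').obj M) _ _ _ ?_
  have hc := coher a b c h h₁ h₂ h₃ M
  simp only [Iso.trans_hom, Iso.app_hom, NatTrans.comp_app] at hc ⊢
  rw [splitTrans_hom, splitTrans_hom, splitTrans_hom]
  exact hc

theorem transport_hom_comp {C₀ C₁ C₂ : Type*} [Category C₀] [Category C₁] [Category C₂] {F : C₀ ⥤ C₁} {G : C₁ ⥤ C₂}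
    {H : C₀ ⥤ C₂} {Φ : F ⋙ G ≅ H} {M₀ M : C₀} {M'₀ M' : C₁} {M''₀ M'' : C₂}
    {eh₀ : F.obj M₀ ≅ M'₀} {eg₀ : G.obj M'₀ ≅ M''₀} {egh₀ : H.obj M₀ ≅ M''₀}
    (hc : (splitIso F G Φ M₀).hom ≫ egh₀.hom = G.map eh₀.hom ≫ eg₀.hom)
    (eh : F.obj M ≅ M') (eg : G.obj M' ≅ M'') (egh : H.obj M ≅ M'') (hM : M₀ = M) (hM' : M'₀ = M')
    (hM'' : M''₀ = M'') (h1 : HEq eh₀ eh) (h2 : HEq eg₀ eg) (h3 : HEq egh₀ egh) :
    (splitIso F G Φ M).hom ≫ egh.hom = G.map eh.hom ≫ eg.hom := by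
  subst hM hM' hM''
  cases h1
  cases h2
  cases h3
  exact hc

section comparison

variable {X S : Scheme.{u}} (f : X ⟶ S) (E : X.Modules) {T T' T'' : Over S} (g : T'' ⟶ T') (h : T' ⟶ T)
  {gh : T'' ⟶ T} (e : g ≫ h = gh)

include e in
theorem XTmap_comp_eq : PicF.XTmap f g ≫ PicF.XTmap f h = PicF.XTmap f gh := by rw [XTmap_comp, e]

/-- The comparison of iterated pullbacks. -/
noncomputable def cG (M : (PicF.XT f T).Modules) :
    (Scheme.Modules.pullback (PicF.XTmap f g)).obj ((Scheme.Modules.pullback (PicF.XTmap f h)).obj M) ≅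
      (Scheme.Modules.pullback (PicF.XTmap f gh)).obj M :=
  splitIso (Scheme.Modules.pullback (PicF.XTmap f h)) (Scheme.Modules.pullback (PicF.XTmap f g))
    (Scheme.Modules.pullbackComp (PicF.XTmap f g) (PicF.XTmap f h) ≪≫
      Scheme.Modules.pullbackCongr (XTmap_comp_eq f g h e)) M

/-- Coherence of the identifications of pulled back modules. -/
theorem cG_ET : (cG f g h e (FGA.ET f E T)).hom ≫ (FGA.ETiso f E gh).hom =
    (Scheme.Modules.pullback (PicF.XTmap f g)).map (FGA.ETiso f E h).hom ≫ (FGA.ETiso f E g).hom := by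
  subst e
  rw [cG]
  have hc := (coher_split (PicF.XTmap f g) (PicF.XTmap f h) (pullback.fst f T.hom) (XTmap_comp_eq f g h (Eq.refl (g ≫ h))) (FGA.XTmap_fst f h)
      (FGA.XTmap_fst f g) (FGA.XTmap_fst f (g ≫ h)) E)
  exact transport_hom_comp hc (FGA.ETiso f E h) (FGA.ETiso f E g) (FGA.ETiso f E (g ≫ h)) rfl rfl rfl
    HEq.rfl HEq.rfl HEq.rfl

theorem cG_inv_map {M N : (PicF.XT f T).Modules} (φ : M ⟶ N) :
    (cG f g h e M).inv ≫ (Scheme.Modules.pullback (PicF.XTmap f g)).map ((Scheme.Modules.pullback (PicF.XTmap f h)).map φ) =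
      (Scheme.Modules.pullback (PicF.XTmap f gh)).map φ ≫ (cG f g h e N).inv :=
  by
  rw [cG, cG]
  exact splitIso_inv_map _ _ _ φ

end comparison

variable {k : Type u} [Field k] {X : Scheme.{u}} (x : X ⟶ specPt k) {E : X.Modules}
  (K₀ : FGA.QuotSet x E (sp (Art.base k k))) {B B' : Art k k} (f : B ⟶ B')

/-- The comparison of the restrictions. -/
noncomputable def cmpIso (M : (PicF.XT x (sp B)).Modules) :
    (Scheme.Modules.pullback (PicF.XTmap x (gm (toBase B')))).obj ((Scheme.Modules.pullback (PicF.XTmap x (gm f))).obj M) ≅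
      (Scheme.Modules.pullback (PicF.XTmap x (gm (toBase B)))).obj M :=
  cG x (gm (toBase B')) (gm f) (gm_toBase f) M

theorem cmpIso_eq (M : (PicF.XT x (sp B)).Modules) :
    cmpIso x f M = cG x (gm (toBase B')) (gm f) (gm_toBase f) M := rfl

theorem cmp_ET : (cmpIso x f (FGA.ET x E (sp B))).hom ≫ (FGA.ETiso x E (gm (toBase B))).hom =
    (Scheme.Modules.pullback (PicF.XTmap x (gm (toBase B')))).map (FGA.ETiso x E (gm f)).hom ≫ (FGA.ETiso x E (gm (toBase B'))).hom :=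
  by
  rw [cmpIso_eq]
  exact cG_ET x E (gm (toBase B')) (gm f) (gm_toBase f)

theorem cmp_inv_map {M N : (PicF.XT x (sp B)).Modules} (φ : M ⟶ N) :
    (cmpIso x f M).inv ≫ (Scheme.Modules.pullback (PicF.XTmap x (gm (toBase B')))).map ((Scheme.Modules.pullback (PicF.XTmap x (gm f))).map φ) =
      (Scheme.Modules.pullback (PicF.XTmap x (gm (toBase B)))).map φ ≫ (cmpIso x f N).inv :=
  by
  rw [cmpIso_eq, cmpIso_eq]
  exact cG_inv_map x (gm (toBase B')) (gm f) (gm_toBase f) φ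

/-- The restriction of the kernel maps to the kernel. -/
noncomputable def xi : (Scheme.Modules.pullback (PicF.XTmap x (gm f))).obj (kernel (rho x E (toBase B) K₀)) ⟶
    kernel (rho x E (toBase B') K₀) :=
  kernel.lift _ ((Scheme.Modules.pullback (PicF.XTmap x (gm f))).map (kernel.ι (rho x E (toBase B) K₀)) ≫
    (FGA.ETiso x E (gm f)).hom) (comp_rho_eq_zero x (toBase B') K₀ _ (by
      rw [← cancel_epi (cmpIso x f _).inv, comp_zero, Functor.map_comp, Category.assoc,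
        ← Category.assoc ((Scheme.Modules.pullback (PicF.XTmap x (gm (toBase B')))).map (FGA.ETiso x E (gm f)).hom), ← cmp_ET, Category.assoc, reassoc_of% cmp_inv_map x f (kernel.ι (rho x E (toBase B) K₀)),
        Iso.inv_hom_id_assoc]
      exact map_ι_psi x K₀ B))

theorem xi_ι : xi x K₀ f ≫ kernel.ι _ = (Scheme.Modules.pullback (PicF.XTmap x (gm f))).map
    (kernel.ι (rho x E (toBase B) K₀)) ≫ (FGA.ETiso x E (gm f)).hom :=
  kernel.lift_ι _ _ _

omit K₀ x in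
theorem change_comp {C₁ C₂ : Type*} [Category C₁] [Category C₂] (L : C₁ ⥤ C₂) {K M K' M' : C₁} {T P Q R : C₂}
    (ci : P ⟶ L.obj K) (ι : K ⟶ M) (et : M ⟶ M') (ξ : K ⟶ K') (ι' : K' ⟶ M') (hξ : ξ ≫ ι' = ι ≫ et)
    (e' : L.obj M' ⟶ T) (Lι : P ⟶ Q) (ci' : Q ⟶ L.obj M) (hci : ci ≫ L.map ι = Lι ≫ ci') (e : Q ⟶ T)
    (he : ci' ≫ L.map et ≫ e' = e) (s' : L.obj K' ⟶ R) (ι₀ : R ⟶ T) (hs' : s' ≫ ι₀ = L.map ι' ≫ e') :
    (ci ≫ L.map ξ) ≫ s' ≫ ι₀ = Lι ≫ e := by
  rw [hs', Category.assoc, ← Functor.map_comp_assoc, hξ, Functor.map_comp, Category.assoc, reassoc_of% hci, he]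

theorem cmp_inv_ET : (cmpIso x f (FGA.ET x E (sp B))).inv ≫ (Scheme.Modules.pullback (PicF.XTmap x (gm (toBase B')))).map (FGA.ETiso x E (gm f)).hom ≫
    (FGA.ETiso x E (gm (toBase B'))).hom = (FGA.ETiso x E (gm (toBase B))).hom := by
  rw [← cmp_ET, Iso.inv_hom_id_assoc]

theorem mu_sig_ι : (((cmpIso x f (kernel (rho x E (toBase B) K₀))).inv ≫
    (Scheme.Modules.pullback (PicF.XTmap x (gm (toBase B')))).map (xi x K₀ f)) ≫ sig x K₀ B') ≫ kernel.ι _ = sig x K₀ B ≫ kernel.ι _ := by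
  rw [Category.assoc, sig_ι x K₀ B]
  exact change_comp (Scheme.Modules.pullback (PicF.XTmap x (gm (toBase B')))) (cmpIso x f _).inv _ _ (xi x K₀ f) _
    (xi_ι x K₀ f) _ _ _ (cmp_inv_map x f (kernel.ι (rho x E (toBase B) K₀))) _ (cmp_inv_ET x f) _ _ (sig_ι x K₀ B')

theorem mu_sig : ((cmpIso x f (kernel (rho x E (toBase B) K₀))).inv ≫
    (Scheme.Modules.pullback (PicF.XTmap x (gm (toBase B')))).map (xi x K₀ f)) ≫ sig x K₀ B' = sig x K₀ B :=
  (cancel_mono (kernel.ι (cokernel.π K₀.1.arrow))).1 (mu_sig_ι x K₀ f)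

omit K₀ x in
theorem eps_change {C₁ C₂ : Type*} [Category C₁] [Category C₂] (L : C₁ ⥤ C₂) {Q Q' P R : C₂} {M M' K K' : C₁}
    (ψ : P ⟶ Q) [Epi ψ] (ε : Q ⟶ R) (ci : P ⟶ L.obj M) (ciK : R ⟶ L.obj K) (et : M ⟶ M') (ψ' : L.obj M' ⟶ Q')
    (ξ : K ⟶ K') (τ₁ : M ⟶ K) (Lτ : P ⟶ R) (τ' : M' ⟶ K') (sc : M' ⟶ M') (sM : L.obj M' ⟶ L.obj M')
    (sQ : Q' ⟶ Q') (ε' : Q' ⟶ L.obj K') (eQ : Q ⟶ Q') (hψ : ψ ≫ eQ = ci ≫ L.map et ≫ ψ') (hε : ψ ≫ ε = Lτ)
    (hci : ci ≫ L.map τ₁ = Lτ ≫ ciK) (h1 : τ₁ ≫ ξ = et ≫ sc ≫ τ') (hsc : L.map sc = sM)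
    (hcomm : sM ≫ ψ' = ψ' ≫ sQ) (hε' : ψ' ≫ ε' = L.map τ') :
    ε ≫ ciK ≫ L.map ξ = eQ ≫ sQ ≫ ε' := by
  rw [← cancel_epi ψ, reassoc_of% hε, ← reassoc_of% hci, ← Functor.map_comp, h1, Functor.map_comp, Functor.map_comp,
    hsc, ← hε', reassoc_of% hcomm, reassoc_of% hψ]

theorem pullback_scalar (d : k) (M : (PicF.XT x (sp B)).Modules) :
    (Scheme.Modules.pullback (PicF.XTmap x (gm (toBase B)))).map (Formal.smulMod B M (algebraMap k B d)) =
      Formal.smulMod k ((Scheme.Modules.pullback (PicF.XTmap x (gm (toBase B)))).obj M) d := by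
  rw [pullback_smul_toBase, AlgHom.commutes]
  rfl

theorem eps_mu (b : B) (hb : b ∈ maximalIdeal B) (e : B') (he : e ∈ maximalIdeal B') (d : k)
    (hf : f b = algebraMap k B' d * e) :
    eps x K₀ b hb ≫ (cmpIso x f (kernel (rho x E (toBase B) K₀))).inv ≫
      (Scheme.Modules.pullback (PicF.XTmap x (gm (toBase B')))).map (xi x K₀ f) =
    Formal.smulMod k (cokernel K₀.1.arrow) d ≫ eps x K₀ e he := by
  haveI : Epi (psi x E (toBase B) K₀) := inferInstance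
  have h1 : (Scheme.Modules.pullback (PicF.XTmap x (gm f))).map
      (tau (rho x E (toBase B) K₀) (fun _ : Fin 1 => b) (smul_Gq0 x K₀ b hb) 0) ≫
      xi x K₀ f = (FGA.ETiso x E (gm f)).hom ≫ Formal.smulMod B' (FGA.ET x E (sp B')) (algebraMap k B' d) ≫
        tau (rho x E (toBase B') K₀) (fun _ : Fin 1 => e) (smul_Gq0 x K₀ e he) 0 := by
    rw [← cancel_mono (kernel.ι (rho x E (toBase B') K₀)), Category.assoc, xi_ι, ← Functor.map_comp_assoc, tau_ι,
      Category.assoc, Category.assoc, tau_ι, pullback_smul_gm, hf, H24Formal.smulMod_mul, ← H24Formal.smulMod_comm,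
      mul_comm e]
  have h2 : psi x E (toBase B) K₀ ≫ 𝟙 _ = (cmpIso x f _).inv ≫
      (Scheme.Modules.pullback (PicF.XTmap x (gm (toBase B')))).map (FGA.ETiso x E (gm f)).hom ≫
      psi x E (toBase B') K₀ :=
    (Category.comp_id _).trans ((congrArg (fun φ => φ ≫ cokernel.π K₀.1.arrow) (cmp_inv_ET x f).symm).trans
      ((Category.assoc _ _ _).trans (congrArg (fun φ => (cmpIso x f _).inv ≫ φ) (Category.assoc _ _ _))))
  exact (eps_change (Scheme.Modules.pullback (PicF.XTmap x (gm (toBase B')))) (psi x E (toBase B) K₀) (eps x K₀ b hb)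
    (cmpIso x f _).inv _ (FGA.ETiso x E (gm f)).hom (psi x E (toBase B') K₀) _ _ _ _ _ _
    (Formal.smulMod k (cokernel K₀.1.arrow) d) (eps x K₀ e he) (𝟙 _) h2 (psi_eps x K₀ b hb)
    (cmp_inv_map x f _) h1 (pullback_scalar x d _) (H24Formal.smulMod_comm _ d) (psi_eps x K₀ e he)).trans
      (Category.id_comp _)

omit f in
/-- The image of a member. -/
noncomputable def mapQ (f : B ⟶ B') (K : QuotDef x K₀ B) : QuotDef x K₀ B' :=
  ⟨pullSet x E (gm f) K.1, (quotPull_toBase x f K.1.1).trans K.2⟩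

theorem localQuot_map (K : QuotDef x K₀ B) : (localQuot x K₀).map f K = mapQ x K₀ f K := rfl

omit K₀ x in
theorem kap_change {C₁ C₂ : Type*} [Category C₁] [Category C₂] [HasZeroMorphisms C₂] (L : C₁ ⥤ C₂) {P R T : C₂}
    {M M' K K' : C₁} (ci : P ⟶ L.obj M) (ciK : R ⟶ L.obj K) (Lκ : P ⟶ R) (κ₁ : M ⟶ K) (e : M ⟶ M') (κ' : M' ⟶ K')
    (ξ : K ⟶ K') (r : L.obj K' ⟶ T) (hci : ci ≫ L.map κ₁ = Lκ ≫ ciK) (h1 : κ₁ ≫ ξ = e ≫ κ')
    (hr : L.map κ' ≫ r = 0) : Lκ ≫ (ciK ≫ L.map ξ) ≫ r = 0 := by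
  rw [Category.assoc, ← reassoc_of% hci, ← Functor.map_comp_assoc, h1, Functor.map_comp, Category.assoc, hr,
    comp_zero, comp_zero]

theorem xi_kap (K : QuotDef x K₀ B) : (Scheme.Modules.pullback (PicF.XTmap x (gm f))).map (kap x K₀ B K) ≫ xi x K₀ f =
    factorThruImageSubobject ((Scheme.Modules.pullback (PicF.XTmap x (gm f))).map K.1.1.arrow ≫
      (FGA.ETiso x E (gm f)).hom) ≫ kap x K₀ B' (mapQ x K₀ f K) := by
  refine (cancel_mono (kernel.ι (rho x E (toBase B') K₀))).1 ?_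
  rw [Category.assoc, xi_ι, ← Functor.map_comp_assoc]
  exact (congrArg (fun φ => (Scheme.Modules.pullback (PicF.XTmap x (gm f))).map φ ≫ (FGA.ETiso x E (gm f)).hom)
    (kap_ι x K₀ B K)).trans ((imageSubobject_arrow_comp _).symm.trans
      ((congrArg (fun φ => factorThruImageSubobject _ ≫ φ) (kap_ι x K₀ B' (mapQ x K₀ f K))).symm.trans
        (Category.assoc _ _ _).symm))

/-- The properties of the change map. -/
theorem exists_change : ∃ μ : (Scheme.Modules.pullback (PicF.XTmap x (gm (toBase B)))).obj (kernel (rho x E (toBase B) K₀)) ⟶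
      (Scheme.Modules.pullback (PicF.XTmap x (gm (toBase B')))).obj (kernel (rho x E (toBase B') K₀)),
    μ ≫ sig x K₀ B' = sig x K₀ B ∧
    (∀ (b : B) (hb : b ∈ maximalIdeal B) (e : B') (he : e ∈ maximalIdeal B') (d : k),
      f b = algebraMap k B' d * e →
        eps x K₀ b hb ≫ μ = Formal.smulMod k (cokernel K₀.1.arrow) d ≫ eps x K₀ e he) ∧
    ∀ (K : QuotDef x K₀ B) {T : (PicF.XT x (sp (Art.base k k))).Modules}
      (r : (Scheme.Modules.pullback (PicF.XTmap x (gm (toBase B')))).obj (kernel (rho x E (toBase B') K₀)) ⟶ T),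
      (Scheme.Modules.pullback (PicF.XTmap x (gm (toBase B')))).map (kap x K₀ B' (mapQ x K₀ f K)) ≫ r = 0 →
        (Scheme.Modules.pullback (PicF.XTmap x (gm (toBase B)))).map (kap x K₀ B K) ≫ μ ≫ r = 0 :=
  ⟨_, mu_sig x K₀ f, eps_mu x K₀ f, fun K _ r hr => kap_change (Scheme.Modules.pullback (PicF.XTmap x (gm (toBase B'))))
    _ _ _ _ _ _ (xi x K₀ f) r (cmp_inv_map x f (kap x K₀ B K)) (xi_kap x K₀ f K) hr⟩

end Groth.Agent.H24Quot
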