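import Groth.Agent.H24Quot.Algebra
import Groth.Agent.H24Quot.Stalk
import Groth.Agent.H24Formal.CohFormal
import Groth.Agent.H06Mod.StalkExact

/-!
# Flat quotients over a small extension: the extension on the closed fibre, retractions and lifts
-/

set_option autoImplicit false
set_option linter.style.haveILetI false
universe u
open CategoryTheory CategoryTheory.Limits AlgebraicGeometry IsLocalRing
open Groth.Agent.H06Mod

namespace Groth.Agent.H24Quot

attribute [local instance] stkModule

variable {R : Type u} [CommRing R] {P : Scheme.{u}} [P.Over (Spec (CommRingCat.of R))]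
  {Z : Scheme.{u}} (i : Z ⟶ P) {E G : P.Modules} (ρ : E ⟶ G) {n : ℕ} (t : Fin n → R)
  (hkill : ∀ l, Formal.smulMod R G (t l) = 0)

/-- The multiples by the kernel of the small extension lie in the kernel. -/
noncomputable def tau (l : Fin n) : E ⟶ kernel ρ :=
  kernel.lift ρ (Formal.smulMod R E (t l)) (by rw [H24Formal.smulMod_comm, hkill l, comp_zero])

theorem tau_ι (l : Fin n) : tau ρ t hkill l ≫ kernel.ι ρ = Formal.smulMod R E (t l) :=
  kernel.lift_ι _ _ _

theorem ι_tau (l : Fin n) : kernel.ι ρ ≫ tau ρ t hkill l = Formal.smulMod R (kernel ρ) (t l) := by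
  rw [← cancel_mono (kernel.ι ρ), Category.assoc, tau_ι, H24Formal.smulMod_comm]

/-- The projection of the extension. -/
noncomputable def sigma : (Scheme.Modules.pullback i).obj (kernel ρ) ⟶ kernel ((Scheme.Modules.pullback i).map ρ) :=
  kernel.lift _ ((Scheme.Modules.pullback i).map (kernel.ι ρ)) (by
    haveI : (Scheme.Modules.pullback i).Additive :=
      (Scheme.Modules.pullbackPushforwardAdjunction i).left_adjoint_additive
    rw [← Functor.map_comp, kernel.condition, Functor.map_zero])

omit [P.Over (Spec (CommRingCat.of R))] in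
theorem sigma_ι : sigma i ρ ≫ kernel.ι _ = (Scheme.Modules.pullback i).map (kernel.ι ρ) :=
  kernel.lift_ι _ _ _

omit [P.Over (Spec (CommRingCat.of R))] in
theorem epi_sigma [Epi ρ] : Epi (sigma i ρ) := by
  let L := Scheme.Modules.pullback i
  let adj := Scheme.Modules.pullbackPushforwardAdjunction i
  haveI : L.Additive := adj.left_adjoint_additive
  haveI : PreservesColimitsOfSize.{0, 0} L := adj.leftAdjoint_preservesColimits
  let S := ShortComplex.mk (kernel.ι ρ) ρ (kernel.condition _)
  have hS : S.Exact := ShortComplex.exact_of_f_is_kernel _ (kernelIsKernel _)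
  exact (ShortComplex.exact_iff_epi_kernel_lift _).1 (hS.map_of_epi_of_preservesCokernel L inferInstance inferInstance)

theorem stalkR_comp {M N K : P.Modules} (φ : M ⟶ N) (ψ : N ⟶ K) (v : P) (z : M.presheaf.stalk v) :
    stalkR R (φ ≫ ψ) v z = stalkR R ψ v (stalkR R φ v z) := by
  show stalkLin (φ ≫ ψ) v z = stalkLin ψ v (stalkLin φ v z)
  obtain ⟨U, hU, m, rfl⟩ := M.presheaf.exists_germ_eq z
  rw [stalkLin_germ, stalkLin_germ, stalkLin_germ]
  rfl

theorem stalkR_ι_injective (v : P) : Function.Injective (stalkR R (kernel.ι ρ) v) :=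
  (H8Props.FunDescent.mono_iff _).1 inferInstance v

theorem range_stalkR_ι [Epi ρ] (v : P) :
    LinearMap.range (stalkR R (kernel.ι ρ) v) = LinearMap.ker (stalkR R ρ v) := by
  have hS : (ShortComplex.mk (kernel.ι ρ) ρ (kernel.condition _)).ShortExact :=
    { exact := ShortComplex.exact_of_f_is_kernel _ (kernelIsKernel _)
      mono_f := inferInstanceAs (Mono (kernel.ι ρ))
      epi_g := inferInstanceAs (Epi ρ) }
  ext z
  exact (stalk_exact _ hS v z).symm

theorem stalk_surjective_of_epi {M N : P.Modules} (φ : M ⟶ N) [Epi φ] (v : P) :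
    Function.Surjective (stalkR R φ v) :=
  (H8Props.FunDescent.epi_iff φ).1 inferInstance v

theorem stalkR_tau (l : Fin n) (v : P) (e : E.presheaf.stalk v) :
    stalkR R (kernel.ι ρ) v (stalkR R (tau ρ t hkill l) v e) = t l • e := by
  rw [← stalkR_comp, tau_ι]
  exact stalkLin_smulMod E (t l) v e

omit [P.Over (Spec (CommRingCat.of R))] in
/-- Maps of pullbacks on stalks. -/
theorem stalkLin_pullback {M N : P.Modules} (φ : M ⟶ N) (v : Z) (z : M.presheaf.stalk (i v)) :
    stalkLin ((Scheme.Modules.pullback i).map φ) v (pullStalk i M v z) = pullStalk i N v (stalkLin φ (i v) z) :=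
  pullStalk_naturality i M v φ z

variable [IsLocalRing R] [IsClosedImmersion i]
  (hker : ∀ v : Z, RingHom.ker (i.stalkMap v).hom = (maximalIdeal R).map (base R (i v)))
  (htm : ∀ l, t l ∈ maximalIdeal R)

include hker htm

theorem pullback_smulMod_eq_zero (M : P.Modules) (l : Fin n) :
    (Scheme.Modules.pullback i).map (Formal.smulMod R M (t l)) = 0 := by
  refine (H8Props.FunDescent.eq_zero_iff _).2 fun v => LinearMap.ext fun z => ?_
  obtain ⟨z, rfl⟩ := pullStalk_surjective i M v z
  rw [stalkLin_pullback, stalkLin_smulMod, LinearMap.zero_apply]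
  exact (pullStalk_eq_zero_iff_base i M v (hker v) _).2 (Submodule.smul_mem_smul (htm l) Submodule.mem_top)

variable [Epi ρ]

/-- The inclusion of the extension. -/
noncomputable def epsilon (l : Fin n) :
    (Scheme.Modules.pullback i).obj G ⟶ (Scheme.Modules.pullback i).obj (kernel ρ) :=
  haveI : PreservesColimitsOfSize.{0, 0} (Scheme.Modules.pullback i) :=
    (Scheme.Modules.pullbackPushforwardAdjunction i).leftAdjoint_preservesColimits
  Abelian.epiDesc ((Scheme.Modules.pullback i).map ρ) ((Scheme.Modules.pullback i).map (tau ρ t hkill l)) (by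
    haveI := epi_sigma i ρ
    rw [← cancel_epi (sigma i ρ), ← Category.assoc, sigma_ι, ← Functor.map_comp, ι_tau, comp_zero,
      pullback_smulMod_eq_zero i t hker htm])

theorem map_epsilon (l : Fin n) :
    (Scheme.Modules.pullback i).map ρ ≫ epsilon i ρ t hkill hker htm l =
      (Scheme.Modules.pullback i).map (tau ρ t hkill l) :=
  haveI : PreservesColimitsOfSize.{0, 0} (Scheme.Modules.pullback i) :=
    (Scheme.Modules.pullbackPushforwardAdjunction i).leftAdjoint_preservesColimits
  Abelian.comp_epiDesc _ _ _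

theorem epsilon_sigma (l : Fin n) : epsilon i ρ t hkill hker htm l ≫ sigma i ρ = 0 := by
  haveI : PreservesColimitsOfSize.{0, 0} (Scheme.Modules.pullback i) :=
    (Scheme.Modules.pullbackPushforwardAdjunction i).leftAdjoint_preservesColimits
  rw [← cancel_epi ((Scheme.Modules.pullback i).map ρ), ← cancel_mono (kernel.ι _), Category.assoc, Category.assoc,
    sigma_ι, ← Category.assoc, map_epsilon, ← Functor.map_comp, tau_ι, pullback_smulMod_eq_zero i t hker htm,
    comp_zero, zero_comp]

/-- The class of a section of the module in the extension. -/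
theorem epsilon_pullStalk (l : Fin n) (v : Z) (e : E.presheaf.stalk (i v)) :
    stalkLin (epsilon i ρ t hkill hker htm l) v (pullStalk i G v (stalkLin ρ (i v) e)) =
      pullStalk i (kernel ρ) v (stalkLin (tau ρ t hkill l) (i v) e) := by
  rw [← stalkLin_pullback, ← stalkLin_pullback, ← map_epsilon i ρ t hkill hker htm]
  obtain ⟨U, hU, m, hm⟩ := ((Scheme.Modules.pullback i).obj E).presheaf.exists_germ_eq (pullStalk i E v e)
  rw [← hm, stalkLin_germ, stalkLin_germ, stalkLin_germ]
  rfl

variable (hE : ∀ v : P, Module.Flat R (E.presheaf.stalk v)) {J : Ideal R}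
  (hG : ∀ v : P, RelTriv (G.presheaf.stalk v) J)

section Generation

variable (hspan : J ≤ Ideal.span (Set.range t))

include hG hspan

/-- The kernel of the projection is generated by the images of the quotient. -/
theorem exists_epsilon_of_sigma_eq_zero (v : Z) (w : ((Scheme.Modules.pullback i).obj (kernel ρ)).presheaf.stalk v)
    (hw : stalkLin (sigma i ρ) v w = 0) :
    ∃ g : Fin n → ((Scheme.Modules.pullback i).obj G).presheaf.stalk v,
      w = ∑ l, stalkLin (epsilon i ρ t hkill hker htm l) v (g l) := by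
  obtain ⟨q, rfl⟩ := pullStalk_surjective i (kernel ρ) v w
  have h1 : pullStalk i E v (stalkR R (kernel.ι ρ) (i v) q) = 0 := by
    show pullStalk i E v (stalkLin (kernel.ι ρ) (i v) q) = 0
    rw [← stalkLin_pullback, ← sigma_ι]
    obtain ⟨U, hU, m, hm⟩ := ((Scheme.Modules.pullback i).obj (kernel ρ)).presheaf.exists_germ_eq
      (pullStalk i (kernel ρ) v q)
    rw [← hm, stalkLin_germ] at hw
    rw [← hm, stalkLin_germ]
    have h2 := congrArg (stalkLin (kernel.ι ((Scheme.Modules.pullback i).map ρ)) v) hw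
    rw [stalkLin_germ, map_zero] at h2
    exact h2
  have h2 := mem_sup_of_mem_maximal_smul (stalkR R ρ (i v)) (stalk_surjective_of_epi ρ _) (hG (i v))
    (by rw [← LinearMap.mem_ker, ← range_stalkR_ι]; exact LinearMap.mem_range_self _ q)
    ((pullStalk_eq_zero_iff_base i E v (hker v) _).1 h1)
  obtain ⟨a, ha, b, hb, hab⟩ := Submodule.mem_sup.1 h2
  obtain ⟨e, rfl⟩ : ∃ e : Fin n → E.presheaf.stalk (i v), a = ∑ l, t l • e l := by
    refine Submodule.smul_induction_on (p := fun a => ∃ e : Fin n → E.presheaf.stalk (i v), a = ∑ l, t l • e l) ha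
      (fun j hj y _ => ?_) ?_
    · obtain ⟨c, rfl⟩ := Ideal.mem_span_range_iff_exists_fun.1 (hspan hj)
      exact ⟨fun l => c l • y, by simp [Finset.sum_smul, smul_smul, mul_comm]⟩
    · rintro x y ⟨e, rfl⟩ ⟨e', rfl⟩
      exact ⟨e + e', by simp [Finset.sum_add_distrib]⟩
  rw [← range_stalkR_ι, ← Submodule.map_top, ← Submodule.map_smul''] at hb
  obtain ⟨b', hb', rfl⟩ := hb
  have hq : q = (∑ l, stalkR R (tau ρ t hkill l) (i v) (e l)) + b' := by
    refine stalkR_ι_injective (R := R) ρ (i v) ?_
    rw [map_add, map_sum, ← hab]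
    simp only [stalkR_tau]
  refine ⟨fun l => pullStalk i G v (stalkLin ρ (i v) (e l)), ?_⟩
  simp only [epsilon_pullStalk]
  rw [hq, map_add, (pullStalk_eq_zero_iff_base i _ v (hker v) b').2 hb', add_zero, map_sum]
  rfl

/-- Maps out of the kernel of the projection agree when they agree on the images of the quotient. -/
theorem hom_ext_kernel_sigma {T : Z.Modules} (f g : kernel (sigma i ρ) ⟶ T)
    (h : ∀ l, kernel.lift _ (epsilon i ρ t hkill hker htm l) (epsilon_sigma i ρ t hkill hker htm l) ≫ f =
      kernel.lift _ (epsilon i ρ t hkill hker htm l) (epsilon_sigma i ρ t hkill hker htm l) ≫ g) : f = g := by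
  rw [← sub_eq_zero]
  refine (H8Props.FunDescent.eq_zero_iff _).2 fun v => LinearMap.ext fun z => ?_
  have hcomp : ∀ {M N K : Z.Modules} (φ : M ⟶ N) (ψ : N ⟶ K) (y : M.presheaf.stalk v),
      stalkLin (φ ≫ ψ) v y = stalkLin ψ v (stalkLin φ v y) := fun {M N K} φ ψ y => by
    obtain ⟨U, hU, m, rfl⟩ := M.presheaf.exists_germ_eq y
    rw [stalkLin_germ, stalkLin_germ, stalkLin_germ]
    rfl
  obtain ⟨c, hc⟩ := exists_epsilon_of_sigma_eq_zero i ρ t hkill hker htm hG hspan v
    (stalkLin (kernel.ι (sigma i ρ)) v z) (by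
      rw [← hcomp, kernel.condition, (H8Props.FunDescent.eq_zero_iff _).1 rfl v]
      rfl)
  have hz : z = ∑ l, stalkLin (kernel.lift _ (epsilon i ρ t hkill hker htm l)
      (epsilon_sigma i ρ t hkill hker htm l)) v (c l) := by
    refine (H8Props.FunDescent.mono_iff (kernel.ι (sigma i ρ))).1 inferInstance v ?_
    rw [map_sum, hc]
    refine Finset.sum_congr rfl fun l _ => ?_
    rw [← hcomp, kernel.lift_ι]
  rw [hz, map_sum, LinearMap.zero_apply]
  refine Finset.sum_eq_zero fun l _ => ?_
  rw [← hcomp, Preadditive.comp_sub, h l, sub_self, (H8Props.FunDescent.eq_zero_iff _).1 rfl v]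
  rfl

end Generation

variable (hind : ∀ c : Fin n → R, ∑ l, c l * t l = 0 → ∀ l, c l ∈ maximalIdeal R)
  (hmJ : ∀ a ∈ maximalIdeal R, ∀ j ∈ J, a * j = 0)

include hE hG hind hmJ

/-- The images of the quotient in the extension are independent. -/
theorem eq_zero_of_sum_epsilon (v : Z) (g : Fin n → ((Scheme.Modules.pullback i).obj G).presheaf.stalk v)
    (hg : ∑ l, stalkLin (epsilon i ρ t hkill hker htm l) v (g l) = 0) (l : Fin n) : g l = 0 := by
  choose g' hg' using fun l => pullStalk_surjective i G v (g l)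
  choose e he using fun l => stalk_surjective_of_epi (R := R) ρ (i v) (g' l)
  have hge : ∀ l, g l = pullStalk i G v (stalkLin ρ (i v) (e l)) := fun l => by
    rw [← hg' l, ← he l]; rfl
  simp only [hge, epsilon_pullStalk] at hg
  rw [← map_sum, pullStalk_eq_zero_iff_base i _ v (hker v)] at hg
  have h1 := Submodule.mem_map_of_mem (f := stalkR R (kernel.ι ρ) (i v)) hg
  rw [Submodule.map_smul'', Submodule.map_top, range_stalkR_ι, map_sum] at h1
  have h2 : ∑ l, t l • e l ∈ maximalIdeal R • LinearMap.ker (stalkR R ρ (i v)) := by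
    have he2 : ∀ l, stalkR R (kernel.ι ρ) (i v) (stalkLin (tau ρ t hkill l) (i v) (e l)) = t l • e l := fun l =>
      stalkR_tau ρ t hkill l (i v) (e l)
    simpa only [he2] using h1
  haveI := hE (i v)
  rw [hge l, pullStalk_eq_zero_iff_base i G v (hker v)]
  exact apply_mem_maximal_smul hmJ hind (stalkR R ρ (i v)) (hG (i v)) h2 l

end Groth.Agent.H24Quot
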