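import Groth.Agent.H24Quot.Induction
import Groth.Agent.H24Art.Point
import Groth.Prelude.Def_ArtFun6
import Groth.Agent.H19Grp.TangentDer

/-!
# The local Quot functor and the local ring of a Quot scheme at a rational point
-/

set_option autoImplicit false
set_option linter.style.haveILetI false
universe u
open CategoryTheory CategoryTheory.Limits AlgebraicGeometry IsLocalRing ArtFun ArtFun.Art

namespace Groth.Agent.H24Quot

variable {k : Type u} [Field k] {X : Scheme.{u}} (x : X ⟶ specPt k) {E : X.Modules}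
  (K₀ : FGA.QuotSet x E (sp (Art.base k k)))

/-- Deformations of a member. -/
def QuotDef (A : Art k k) : Type (u + 1) :=
  {K : FGA.QuotSet x E (sp A) // FGA.quotPull x E (gm (toBase A)) K.1 = K₀.1}

theorem quotDef_ext {A : Art k k} {K K' : QuotDef x K₀ A} (h : K.1.1 = K'.1.1) : K = K' :=
  Subtype.ext (Subtype.ext h)

/-- The local Quot functor. -/
noncomputable def localQuot : Art k k ⥤ Type (u + 1) where
  obj A := QuotDef x K₀ A
  map {A B} f := ↾fun (K : QuotDef x K₀ A) =>
    (⟨pullSet x E (gm f) K.1, (quotPull_toBase x f K.1.1).trans K.2⟩ : QuotDef x K₀ B)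
  map_id A := ConcreteCategory.hom_ext _ _ fun K => quotDef_ext x K₀ (quotPull_gm_id x K.1.1)
  map_comp f g := ConcreteCategory.hom_ext _ _ fun K => quotDef_ext x K₀ (quotPull_gm_comp x f g K.1.1).symm

/-- Unobstructedness. -/
theorem isSmoothFunctor_localQuot [LocallyOfFiniteType x] (hE : Coh.IsCoh E)
    [HasExt.{u} (PicF.XT x (sp (Art.base k k))).Modules]
    (h : Subsingleton (Abelian.Ext.{u} (Subobject.underlying.obj K₀.1) (cokernel K₀.1.arrow) 1)) :
    IsSmoothFunctor (localQuot x K₀) := fun B A p hp K => by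
  obtain ⟨K', hK'⟩ := exists_lift x K₀ hE h p hp K.1 K.2
  have h2 : FGA.quotPull x E (gm (toBase B)) K'.1 = K₀.1 := by rw [← quotPull_toBase x p, hK', K.2]
  exact ⟨⟨K', h2⟩, quotDef_ext x K₀ hK'⟩

/-- The local ring of a Quot scheme at a rational point pro-represents the local Quot functor. -/
theorem exists_isUniversal_stalk (Q : Over (specPt k)) (Ku : FGA.QuotSet x E Q)
    (hQ : FGA.QuotRepresentedBy x E Q Ku) (y : sp (Art.base k k) ⟶ Q) (hy : FGA.quotPull x E y Ku.1 = K₀.1) :
    ∃ (_ : Algebra k (Q.left.presheaf.stalk (y.left.base (IsLocalRing.closedPoint k))))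
      (ρ : Q.left.presheaf.stalk (y.left.base (IsLocalRing.closedPoint k)) →ₐ[k] k)
      (ξ : Family (Q.left.presheaf.stalk (y.left.base (IsLocalRing.closedPoint k))) ρ (localQuot x K₀)),
      Function.Surjective ρ ∧ IsUniversal ξ := by
  obtain ⟨hLN, hrep⟩ := hQ
  let η := y.left.base (IsLocalRing.closedPoint k)
  let R := Q.left.presheaf.stalk η
  let u := Q.left.fromSpecStalk η
  let ψ : CommRingCat.of k ⟶ R := Spec.preimage (u ≫ Q.hom)
  letI alg : Algebra k R := ψ.hom.toAlgebra
  let ε : R ⟶ CommRingCat.of k := Scheme.stalkClosedPointTo (R := CommRingCat.of k) y.left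
  have hε : Spec.map ε ≫ u = y.left :=
    Scheme.Spec_stalkClosedPointTo_fromSpecStalk (R := CommRingCat.of k) y.left
  have hψε : ψ ≫ ε = 𝟙 _ := by
    apply Spec.map_injective
    rw [Spec.map_comp, Spec.map_preimage, reassoc_of% hε]
    exact Over.w y
  let ρ : R →ₐ[k] k := { ε.hom with commutes' := fun c => H19Grp.hom_apply_of_comp_eq_id (A := CommRingCat.of k) ψ ε hψε c }
  have hρ : CommRingCat.ofHom ρ.toRingHom = ε := rfl
  let g : ∀ A : Art k k, HomSet R ρ A → (sp A ⟶ Q) := fun A φ =>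
    Over.homMk (Spec.map (CommRingCat.ofHom φ.1.toRingHom) ≫ u) (by
      rw [Category.assoc, ← Spec.map_preimage (u ≫ Q.hom), ← Spec.map_comp]
      exact congrArg Spec.map (CommRingCat.hom_ext (RingHom.ext fun c => φ.1.commutes c)))
  have hgy : ∀ A φ, gm (toBase A) ≫ g A φ = y := fun A φ => Over.OverMorphism.ext (by
    show Spec.map (CommRingCat.ofHom A.res.toRingHom) ≫ Spec.map (CommRingCat.ofHom φ.1.toRingHom) ≫ u = _
    rw [← Spec.map_comp_assoc, ← CommRingCat.ofHom_comp,
      show A.res.toRingHom.comp φ.1.toRingHom = ρ.toRingHom from congrArg AlgHom.toRingHom φ.2, hρ, hε])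
  let el : ∀ A (φ : HomSet R ρ A), (localQuot x K₀).obj A := fun A φ =>
    ⟨pullSet x E (g A φ) Ku, by
      show FGA.quotPull x E (gm (toBase A)) (FGA.quotPull x E (g A φ) Ku.1) = K₀.1
      rw [quotPull_comp, hgy, hy]⟩
  have hnat : ∀ {A B : Art k k} (f : A ⟶ B) (φ : HomSet R ρ A),
      el B (HomSet.map f φ) = (localQuot x K₀).map f (el A φ) := by
    intro A B f φ
    refine quotDef_ext x K₀ ?_
    show FGA.quotPull x E (g B (HomSet.map f φ)) Ku.1 = FGA.quotPull x E (gm f) (FGA.quotPull x E (g A φ) Ku.1)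
    rw [quotPull_comp]
    refine congrArg (fun t => FGA.quotPull x E t Ku.1) (Over.OverMorphism.ext ?_)
    show Spec.map (CommRingCat.ofHom (f.toAlgHom.comp φ.1).toRingHom) ≫ u =
        specMap f ≫ Spec.map (CommRingCat.ofHom φ.1.toRingHom) ≫ u
    rw [← Spec.map_comp_assoc]
    rfl
  refine ⟨alg, ρ, ⟨el, @hnat⟩, fun c => ⟨algebraMap k R c, ρ.commutes c⟩, fun A => ⟨fun φ φ' h => ?_, fun K => ?_⟩⟩
  · haveI : IsLocallyNoetherian (sp A).left := inferInstanceAs (IsLocallyNoetherian (spec A))
    obtain ⟨g₀, -, huniq⟩ := hrep (sp A) (pullSet x E (g A φ) Ku)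
    have e : g A φ' = g A φ := (huniq _ (congrArg (fun t : (localQuot x K₀).obj A => t.1.1) h).symm).trans
      (huniq _ rfl).symm
    have e1 := congrArg CommaMorphism.left e
    have e2 := Spec.map_injective ((cancel_mono u).1 e1.symm)
    exact Subtype.ext (AlgHom.ext fun r => congrArg (fun t : R ⟶ CommRingCat.of A => t.hom r) e2)
  · haveI : IsLocallyNoetherian (sp A).left := inferInstanceAs (IsLocallyNoetherian (spec A))
    haveI : IsLocallyNoetherian (sp (Art.base k k)).left :=
      inferInstanceAs (IsLocallyNoetherian (Spec (CommRingCat.of k)))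
    obtain ⟨g', hg', -⟩ := hrep (sp A) K.1
    obtain ⟨g₀, -, huniq⟩ := hrep (sp (Art.base k k)) K₀
    have e : gm (toBase A) ≫ g' = y := (huniq _ (by
      show FGA.quotPull x E (gm (toBase A) ≫ g') Ku.1 = K₀.1
      rw [← quotPull_comp, hg']
      exact K.2)).trans (huniq _ hy).symm
    have e' : specRes A ≫ g'.left = y.left := congrArg CommaMorphism.left e
    have hpt : g'.left (IsLocalRing.closedPoint (CommRingCat.of A)) = η := by
      show g'.left _ = y.left (IsLocalRing.closedPoint k)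
      rw [← e']
      exact congrArg g'.left (H24Hilb.specRes_closedPoint A).symm
    obtain ⟨φ₀, hφ₀⟩ := H19Grp.exists_hom_of_closedPoint_eq (R := CommRingCat.of A) g'.left hpt
    have h1 : ψ ≫ φ₀ = CommRingCat.ofHom (ofBase A).toAlgHom.toRingHom := Spec.map_injective (by
      rw [Spec.map_comp, Spec.map_preimage, ← Category.assoc, ← hφ₀]
      exact Over.w g')
    have h2 : φ₀ ≫ CommRingCat.ofHom A.res.toRingHom = ε := Spec.map_injective ((cancel_mono u).1 (by
      rw [Spec.map_comp, Category.assoc, ← hφ₀, hε]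
      exact e'))
    let φ : HomSet R ρ A := ⟨{ φ₀.hom with commutes' := fun c =>
        (congrArg (fun t : CommRingCat.of k ⟶ CommRingCat.of A => t.hom c) h1).trans ((ofBase A).toAlgHom.commutes c) },
      AlgHom.ext fun r => congrArg (fun t : R ⟶ CommRingCat.of k => t.hom r) h2⟩
    refine ⟨φ, quotDef_ext x K₀ (Eq.trans ?_ hg')⟩
    show FGA.quotPull x E (g A φ) Ku.1 = _
    rw [show g A φ = g' from Over.OverMorphism.ext hφ₀.symm]

/-- Regularity at a rational point with vanishing first extension group. -/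
theorem isRegularLocalRing_stalk [LocallyOfFiniteType x] (hE : Coh.IsCoh E) (s : specPt k ⟶ specPt k)
    (hs : s = specOver (Art.base k k)) (Q : Over (specPt k)) (Ku : FGA.QuotSet x E Q)
    (hQ : FGA.QuotRepresentedBy x E Q Ku) (K₁ : FGA.QuotSet x E (Over.mk s)) (y : Over.mk s ⟶ Q)
    (hy : FGA.quotPull x E y Ku.1 = K₁.1) [HasExt.{u} (PicF.XT x (Over.mk s)).Modules]
    (h : Subsingleton (Abelian.Ext.{u} (Subobject.underlying.obj K₁.1) (cokernel K₁.1.arrow) 1)) :
    IsRegularLocalRing (Q.left.presheaf.stalk (y.left.base (IsLocalRing.closedPoint k))) := by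
  subst hs
  haveI : IsLocallyNoetherian Q.left := hQ.1
  obtain ⟨alg, ρ, ξ, hρ, hξ⟩ := exists_isUniversal_stalk x K₁ Q Ku hQ y hy
  exact H24Art.isRegularLocalRing_of_isSmoothFunctor ξ hρ hξ (isSmoothFunctor_localQuot x K₁ hE h)

theorem specOver_base : specOver (Art.base k k) = 𝟙 (specPt k) := by
  show Spec.map _ = _
  rw [← Spec.map_id]
  rfl

end Groth.Agent.H24Quot
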