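import Groth.Agent.H24Quot.Member
import Groth.Agent.H24Quot.Scalars
import Groth.Agent.H24Quot.Point

/-!
# The kernel on a square-zero thickening, read on the closed fibre
-/

set_option autoImplicit false
set_option linter.style.haveILetI false
universe u
open CategoryTheory CategoryTheory.Limits AlgebraicGeometry IsLocalRing ArtFun ArtFun.Art
open Groth.Agent.H06Mod

namespace Groth.Agent.H24Quot

attribute [local instance] stkModule overArt over0

variable {k : Type u} [Field k] {X : Scheme.{u}} (x : X ⟶ specPt k) {E : X.Modules}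
  (K₀ : FGA.QuotSet x E (sp (Art.base k k))) (B : Art k k)

/-- Transposes of vanishing composites vanish. -/
theorem comp_homEquiv_eq_zero {P Z : Scheme.{u}} (j : Z ⟶ P) {M N : P.Modules} {T : Z.Modules} (a : M ⟶ N)
    (ψ : (Scheme.Modules.pullback j).obj N ⟶ T) (h : (Scheme.Modules.pullback j).map a ≫ ψ = 0) :
    a ≫ (Scheme.Modules.pullbackPushforwardAdjunction j).homEquiv N T ψ = 0 := by
  rw [← Adjunction.homEquiv_naturality_left, h, Adjunction.homEquiv_unit, Functor.map_zero, comp_zero]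

theorem isClosedImmersion_i0 : IsClosedImmersion (PicF.XTmap x (gm (toBase B))) := isClosedImmersion_XTmap x (toBase B) B.res_surjective

theorem epi_rho0 : Epi (rho x E (toBase B) K₀) := epi_rho x E (toBase B) K₀ B.res_surjective

theorem map_rho_cou : (Scheme.Modules.pullback (PicF.XTmap x (gm (toBase B)))).map (rho x E (toBase B) K₀) ≫ cou (PicF.XTmap x (gm (toBase B))) (cokernel K₀.1.arrow) = psi x E (toBase B) K₀ :=
  (Adjunction.homEquiv_counit _ _ _ _).symm.trans (Equiv.symm_apply_apply _ _)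

theorem isIso_cou0 : IsIso (cou (PicF.XTmap x (gm (toBase B))) (cokernel K₀.1.arrow)) :=
  haveI := isClosedImmersion_i0 x B
  isIso_counit (PicF.XTmap x (gm (toBase B))) (psi x E (toBase B) K₀)

theorem map_ι_psi : (Scheme.Modules.pullback (PicF.XTmap x (gm (toBase B)))).map (kernel.ι (rho x E (toBase B) K₀)) ≫ psi x E (toBase B) K₀ = 0 := by
  haveI : (Scheme.Modules.pullback (PicF.XTmap x (gm (toBase B)))).Additive := (Scheme.Modules.pullbackPushforwardAdjunction (PicF.XTmap x (gm (toBase B)))).left_adjoint_additive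
  rw [← map_rho_cou, ← Category.assoc, ← Functor.map_comp, kernel.condition, Functor.map_zero, zero_comp]

/-- The projection onto the kernel on the closed fibre. -/
noncomputable def sig : (Scheme.Modules.pullback (PicF.XTmap x (gm (toBase B)))).obj (kernel (rho x E (toBase B) K₀)) ⟶ kernel (cokernel.π K₀.1.arrow) :=
  kernel.lift _ ((Scheme.Modules.pullback (PicF.XTmap x (gm (toBase B)))).map (kernel.ι (rho x E (toBase B) K₀)) ≫ (FGA.ETiso x E (gm (toBase B))).hom) (by
    rw [Category.assoc]; exact map_ι_psi x K₀ B)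

theorem sig_ι : sig x K₀ B ≫ kernel.ι _ =
    (Scheme.Modules.pullback (PicF.XTmap x (gm (toBase B)))).map (kernel.ι (rho x E (toBase B) K₀)) ≫ (FGA.ETiso x E (gm (toBase B))).hom :=
  kernel.lift_ι _ _ _

theorem exists_sigma_iso : haveI := epi_rho0 x K₀ B
    ∃ m : kernel ((Scheme.Modules.pullback (PicF.XTmap x (gm (toBase B)))).map (rho x E (toBase B) K₀)) ≅ kernel (cokernel.π K₀.1.arrow),
      sigma (PicF.XTmap x (gm (toBase B))) (rho x E (toBase B) K₀) ≫ m.hom = sig x K₀ B := by
  haveI := isIso_cou0 x K₀ B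
  let m := kernel.mapIso ((Scheme.Modules.pullback (PicF.XTmap x (gm (toBase B)))).map (rho x E (toBase B) K₀)) (cokernel.π K₀.1.arrow)
    (FGA.ETiso x E (gm (toBase B))) (asIso (cou (PicF.XTmap x (gm (toBase B))) (cokernel K₀.1.arrow))) (map_rho_cou x K₀ B)
  refine ⟨m, ?_⟩
  rw [← cancel_mono (kernel.ι (cokernel.π K₀.1.arrow)), sig_ι, Category.assoc]
  rw [show m.hom ≫ kernel.ι _ = kernel.ι _ ≫ (FGA.ETiso x E (gm (toBase B))).hom from kernel.lift_ι _ _ _,
    ← Category.assoc, sigma_ι]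

theorem epi_sig : Epi (sig x K₀ B) := by
  haveI := epi_rho0 x K₀ B
  haveI := epi_sigma (PicF.XTmap x (gm (toBase B))) (rho x E (toBase B) K₀)
  obtain ⟨m, hm⟩ := exists_sigma_iso x K₀ B
  rw [← hm]
  infer_instance

variable {B} (b : B) (hb : b ∈ maximalIdeal B)

include hb in
theorem smul_Gq0 (_ : Fin 1) : Formal.smulMod B (Gq x E (toBase B) K₀) b = 0 :=
  smulMod_push x (toBase B) _ B.res_surjective ((B.mem_maximalIdeal_iff b).1 hb)

/-- Multiplication by a scalar in the maximal ideal, on the closed fibre. -/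
noncomputable def eps : cokernel K₀.1.arrow ⟶ (Scheme.Modules.pullback (PicF.XTmap x (gm (toBase B)))).obj (kernel (rho x E (toBase B) K₀)) :=
  haveI := isIso_cou0 x K₀ B
  haveI := epi_rho0 x K₀ B
  haveI := isClosedImmersion_i0 x B
  inv (cou (PicF.XTmap x (gm (toBase B))) (cokernel K₀.1.arrow)) ≫
    epsilon (PicF.XTmap x (gm (toBase B))) (rho x E (toBase B) K₀) (fun _ : Fin 1 => b) (smul_Gq0 x K₀ b hb) (ker_XTmap_toBase x) (fun _ => hb) 0

theorem psi_eps : psi x E (toBase B) K₀ ≫ eps x K₀ b hb =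
    (Scheme.Modules.pullback (PicF.XTmap x (gm (toBase B)))).map (tau (rho x E (toBase B) K₀) (fun _ : Fin 1 => b) (smul_Gq0 x K₀ b hb) 0) := by
  haveI := isIso_cou0 x K₀ B
  haveI := epi_rho0 x K₀ B
  haveI := isClosedImmersion_i0 x B
  rw [← map_rho_cou, eps, Category.assoc, IsIso.hom_inv_id_assoc,
    map_epsilon (PicF.XTmap x (gm (toBase B))) (rho x E (toBase B) K₀) (fun _ : Fin 1 => b) (smul_Gq0 x K₀ b hb) (ker_XTmap_toBase x) (fun _ => hb)]

/-- Maps killing the multiples of generators of the maximal ideal descend. -/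
theorem exists_desc {n : ℕ} (t : Fin n → B) (ht : ∀ l, t l ∈ maximalIdeal B)
    (hspan : maximalIdeal B ≤ Ideal.span (Set.range t)) {T : (PicF.XT x (sp (Art.base k k))).Modules}
    (d : (Scheme.Modules.pullback (PicF.XTmap x (gm (toBase B)))).obj (kernel (rho x E (toBase B) K₀)) ⟶ T) (hd : ∀ l, eps x K₀ (t l) (ht l) ≫ d = 0) : ∃ d', sig x K₀ B ≫ d' = d := by
  haveI := isIso_cou0 x K₀ B
  haveI := epi_rho0 x K₀ B
  haveI := isClosedImmersion_i0 x B
  haveI := epi_sigma (PicF.XTmap x (gm (toBase B))) (rho x E (toBase B) K₀)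
  have hk : kernel.ι (sigma (PicF.XTmap x (gm (toBase B))) (rho x E (toBase B) K₀)) ≫ d = 0 :=
    hom_ext_kernel_sigma (PicF.XTmap x (gm (toBase B))) (rho x E (toBase B) K₀) t
      (fun l => smul_Gq0 x K₀ (t l) (ht l) 0) (ker_XTmap_toBase x) ht
      (relTriv_Gq x E (toBase B) K₀ B.res_surjective) (fun a ha => hspan ((B.mem_maximalIdeal_iff a).2 ha))
      (kernel.ι (sigma (PicF.XTmap x (gm (toBase B))) (rho x E (toBase B) K₀)) ≫ d) 0 fun l => by
        rw [comp_zero, kernel.lift_ι_assoc, ← cancel_epi (inv (cou (PicF.XTmap x (gm (toBase B))) (cokernel K₀.1.arrow))), comp_zero,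
          ← Category.assoc]
        exact hd l
  obtain ⟨m, hm⟩ := exists_sigma_iso x K₀ B
  refine ⟨m.inv ≫ Abelian.epiDesc _ d hk, ?_⟩
  rw [← hm, Category.assoc, Iso.hom_inv_id_assoc, Abelian.comp_epiDesc]

theorem eps_sig : eps x K₀ b hb ≫ sig x K₀ B = 0 := by
  haveI : Epi (psi x E (toBase B) K₀) := inferInstance
  haveI : (Scheme.Modules.pullback (PicF.XTmap x (gm (toBase B)))).Additive := (Scheme.Modules.pullbackPushforwardAdjunction (PicF.XTmap x (gm (toBase B)))).left_adjoint_additive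
  rw [← cancel_mono (kernel.ι (cokernel.π K₀.1.arrow)), Category.assoc, sig_ι, zero_comp,
    ← cancel_epi (psi x E (toBase B) K₀), comp_zero, ← Category.assoc (psi x E (toBase B) K₀) (eps x K₀ b hb),
    psi_eps x K₀ b hb, ← Functor.map_comp_assoc, tau_ι, pullback_smul_toBase,
    (B.mem_maximalIdeal_iff b).1 hb, H24Formal.smulMod_zero, zero_comp]

section member

variable (B) (K : QuotDef x K₀ B)

theorem exact_member : ∃ w : ((Scheme.Modules.pullback (PicF.XTmap x (gm (toBase B)))).map K.1.1.arrow ≫ (FGA.ETiso x E (gm (toBase B))).hom) ≫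
    cokernel.π K₀.1.arrow = 0, (ShortComplex.mk _ _ w).Exact := by
  let f := (Scheme.Modules.pullback (PicF.XTmap x (gm (toBase B)))).map K.1.1.arrow ≫ (FGA.ETiso x E (gm (toBase B))).hom
  have h : imageSubobject f = kernelSubobject (cokernel.π K₀.1.arrow) :=
    K.2.trans (kernelSubobject_cokernel_π _).symm
  have w : f ≫ cokernel.π K₀.1.arrow = 0 := by
    rw [← imageSubobject_arrow_comp f, Category.assoc, ← Subobject.ofLE_arrow h.le, Category.assoc,
      kernelSubobject_arrow_comp, comp_zero, comp_zero]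
  exact ⟨w, (ShortComplex.exact_iff_image_eq_kernel _).2 h⟩

omit B K in
theorem comp_rho_eq_zero {B A : Art k k} (p : B ⟶ A) (K' : FGA.QuotSet x E (sp A)) {M : (PicF.XT x (sp B)).Modules}
    (a : M ⟶ FGA.ET x E (sp B)) (h : (Scheme.Modules.pullback (PicF.XTmap x (gm p))).map a ≫ psi x E p K' = 0) :
    a ≫ rho x E p K' = 0 :=
  comp_homEquiv_eq_zero (PicF.XTmap x (gm p)) a (psi x E p K') h

theorem arrow_rho0 : K.1.1.arrow ≫ rho x E (toBase B) K₀ = 0 := by
  obtain ⟨w, -⟩ := exact_member x K₀ B K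
  exact comp_rho_eq_zero x (toBase B) K₀ K.1.1.arrow ((Category.assoc _ _ _).symm.trans w)

/-- The inclusion of a member into the kernel. -/
noncomputable def kap : (K.1.1 : (PicF.XT x (sp B)).Modules) ⟶ kernel (rho x E (toBase B) K₀) :=
  kernel.lift _ K.1.1.arrow (arrow_rho0 x K₀ B K)

theorem kap_ι : kap x K₀ B K ≫ kernel.ι _ = K.1.1.arrow := kernel.lift_ι _ _ _

theorem epi_kap_sig : Epi ((Scheme.Modules.pullback (PicF.XTmap x (gm (toBase B)))).map (kap x K₀ B K) ≫ sig x K₀ B) := by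
  obtain ⟨w, hw⟩ := exact_member x K₀ B K
  have e : (Scheme.Modules.pullback (PicF.XTmap x (gm (toBase B)))).map (kap x K₀ B K) ≫ sig x K₀ B = kernel.lift _ _ w := by
    rw [← cancel_mono (kernel.ι (cokernel.π K₀.1.arrow)), Category.assoc, sig_ι, kernel.lift_ι, ← Category.assoc,
      ← Functor.map_comp, kap_ι]
  rw [e]
  exact (ShortComplex.exact_iff_epi_kernel_lift _).1 hw

/-- Maps on the extension vanishing on the member and on the multiples vanish. -/
theorem eq_zero_of_adapted {n : ℕ} (t : Fin n → B) (ht : ∀ l, t l ∈ maximalIdeal B)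
    (hspan : maximalIdeal B ≤ Ideal.span (Set.range t)) {T : (PicF.XT x (sp (Art.base k k))).Modules}
    (d : (Scheme.Modules.pullback (PicF.XTmap x (gm (toBase B)))).obj (kernel (rho x E (toBase B) K₀)) ⟶ T) (hd : ∀ l, eps x K₀ (t l) (ht l) ≫ d = 0) (hK : (Scheme.Modules.pullback (PicF.XTmap x (gm (toBase B)))).map (kap x K₀ B K) ≫ d = 0) :
    d = 0 := by
  obtain ⟨d', rfl⟩ := exists_desc x K₀ t ht hspan d hd
  haveI := epi_kap_sig x K₀ B K
  have : d' = 0 := by rw [← cancel_epi ((Scheme.Modules.pullback (PicF.XTmap x (gm (toBase B)))).map (kap x K₀ B K) ≫ sig x K₀ B), Category.assoc, hK, comp_zero]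
  rw [this, comp_zero]

end member

end Groth.Agent.H24Quot
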