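import Groth.Agent.H24Quot.Core

/-!
# Flat lifts of a quotient over a small extension and retractions of the extension on the closed fibre
-/

set_option autoImplicit false
set_option linter.style.haveILetI false
universe u
open CategoryTheory CategoryTheory.Limits AlgebraicGeometry IsLocalRing
open Groth.Agent.H06Mod

namespace Groth.Agent.H24Quot

attribute [local instance] stkModule

theorem stalkLin_comp {X : Scheme.{u}} {M N K : X.Modules} (φ : M ⟶ N) (ψ : N ⟶ K) (v : X)
    (z : M.presheaf.stalk v) : stalkLin (φ ≫ ψ) v z = stalkLin ψ v (stalkLin φ v z) := by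
  obtain ⟨U, hU, m, rfl⟩ := M.presheaf.exists_germ_eq z
  rw [stalkLin_germ, stalkLin_germ, stalkLin_germ]
  rfl

theorem stalkLin_id {X : Scheme.{u}} (M : X.Modules) (v : X) (z : M.presheaf.stalk v) :
    stalkLin (𝟙 M) v z = z := by
  obtain ⟨U, hU, m, rfl⟩ := M.presheaf.exists_germ_eq z
  rw [stalkLin_germ]
  rfl

theorem stalkLin_zero {X : Scheme.{u}} {M N : X.Modules} (v : X) (z : M.presheaf.stalk v) :
    stalkLin (0 : M ⟶ N) v z = 0 := by
  rw [(H8Props.FunDescent.eq_zero_iff _).1 rfl v]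
  rfl

/-- The stalk of the adjoint of a map out of a pullback along a closed immersion. -/
theorem stalkLin_homEquiv_eq_zero_iff {P Z : Scheme.{u}} (i : Z ⟶ P) [IsClosedImmersion i] {M : P.Modules}
    {T : Z.Modules} (r : (Scheme.Modules.pullback i).obj M ⟶ T) (v : Z) (z : M.presheaf.stalk (i v)) :
    stalkLin ((Scheme.Modules.pullbackPushforwardAdjunction i).homEquiv M T r) (i v) z = 0 ↔
      stalkLin r v (pullStalk i M v z) = 0 := by
  obtain ⟨U, hU, m, rfl⟩ := M.presheaf.exists_germ_eq z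
  rw [stalkLin_germ, pullStalk_germ, homEquiv_app]
  erw [stalkLin_germ]
  let a : Γ(T, i ⁻¹ᵁ U) := r.app (i ⁻¹ᵁ U) (OmegaSh.pullSect i M U m)
  show ((Scheme.Modules.pushforward i).obj T).presheaf.germ U (i v) hU a = 0 ↔ T.presheaf.germ (i ⁻¹ᵁ U) v hU a = 0
  constructor
  · intro h
    rw [← map_zero (((Scheme.Modules.pushforward i).obj T).presheaf.germ U (i v) hU).hom] at h
    obtain ⟨W, hW, iW, jW, he⟩ := ((Scheme.Modules.pushforward i).obj T).presheaf.germ_eq (i v) hU hU _ _ h
    erw [map_zero] at he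
    have := congrArg (T.presheaf.germ (i ⁻¹ᵁ W) v hW) he
    refine Eq.trans ?_ (this.trans (map_zero _))
    exact (TopCat.Presheaf.germ_res_apply T.presheaf ((TopologicalSpace.Opens.map i.base).map iW) v hW a).symm
  · intro h
    rw [← map_zero (T.presheaf.germ (i ⁻¹ᵁ U) v hU).hom] at h
    obtain ⟨W, hW, iW, jW, he⟩ := T.presheaf.germ_eq v hU hU _ _ h
    rw [map_zero] at he
    obtain ⟨W₀, hW₀o, hW₀⟩ := i.isClosedEmbedding.isInducing.isOpen_iff.1 W.2
    let W' : P.Opens := ⟨W₀, hW₀o⟩ ⊓ U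
    have hv : i v ∈ W' := ⟨(show v ∈ i.base ⁻¹' W₀ from hW₀.symm ▸ hW), hU⟩
    have hle : i ⁻¹ᵁ W' ≤ W := fun y hy => (Set.ext_iff.1 hW₀ y).1 hy.1
    have h0 : ((Scheme.Modules.pushforward i).obj T).presheaf.map (homOfLE (inf_le_right : W' ≤ U)).op a = 0 := by
      show T.presheaf.map ((TopologicalSpace.Opens.map i.base).map (homOfLE (inf_le_right : W' ≤ U))).op a = 0
      rw [show ((TopologicalSpace.Opens.map i.base).map (homOfLE (inf_le_right : W' ≤ U))).op =
        iW.op ≫ (homOfLE hle).op from Subsingleton.elim _ _, Functor.map_comp]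
      show T.presheaf.map (homOfLE hle).op (T.presheaf.map iW.op a) = 0
      rw [he, map_zero]
    rw [← ((Scheme.Modules.pushforward i).obj T).presheaf.germ_res_apply (homOfLE (inf_le_right : W' ≤ U)) (i v) hv a,
      h0, map_zero]

/-- Killed elements of a flat module. -/
theorem mem_maximal_smul_of_smul_eq_zero {R M : Type u} [CommRing R] [IsLocalRing R] [AddCommGroup M] [Module R M]
    [Module.Flat R M] {t : Fin 1 → R} (hind : ∀ c : Fin 1 → R, ∑ l, c l * t l = 0 → ∀ l, c l ∈ maximalIdeal R)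
    {z : M} (hz : t 0 • z = 0) : z ∈ maximalIdeal R • (⊤ : Submodule R M) := by
  obtain ⟨m, a, y, hy, ha⟩ := Module.Flat.isTrivialRelation_of_sum_smul_eq_zero (f := t) (x := fun _ : Fin 1 => z)
    (by rw [Fin.sum_univ_one]; exact hz)
  rw [show z = ∑ b, a 0 b • y b from hy 0]
  exact Submodule.sum_mem _ fun b _ => Submodule.smul_mem_smul
    (hind (fun l => a l b) (by rw [← ha b]; exact Finset.sum_congr rfl fun _ _ => mul_comm _ _) 0) Submodule.mem_top

variable {R : Type u} [CommRing R] [IsLocalRing R] [IsArtinianRing R] {P : Scheme.{u}}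
  [P.Over (Spec (CommRingCat.of R))] {Z : Scheme.{u}} (i : Z ⟶ P) [IsClosedImmersion i] {E G : P.Modules}
  (ρ : E ⟶ G) [Epi ρ] {t : Fin 1 → R} (hkill : ∀ l, Formal.smulMod R G (t l) = 0)
  (hker : ∀ v : Z, RingHom.ker (i.stalkMap v).hom = (maximalIdeal R).map (base R (i v)))
  (htm : ∀ l, t l ∈ maximalIdeal R) (hE : ∀ v : P, Module.Flat R (E.presheaf.stalk v)) {J : Ideal R}
  (hG : ∀ v : P, RelTriv (G.presheaf.stalk v) J) (hspan : J ≤ Ideal.span (Set.range t)) (htJ : ∀ l, t l ∈ J)
  (hind : ∀ c : Fin 1 → R, ∑ l, c l * t l = 0 → ∀ l, c l ∈ maximalIdeal R)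
  (hmJ : ∀ a ∈ maximalIdeal R, ∀ j ∈ J, a * j = 0) (hi : Function.Surjective i)

include hE hG hspan hind hmJ in
/-- The extension on the closed fibre. -/
theorem shortExact_extension : (ShortComplex.mk (epsilon i ρ t hkill hker htm 0) (sigma i ρ)
    (epsilon_sigma i ρ t hkill hker htm 0)).ShortExact := by
  haveI : Mono (epsilon i ρ t hkill hker htm 0) := (H8Props.FunDescent.mono_iff _).2 fun v a b h => by
    rw [← sub_eq_zero]
    exact eq_zero_of_sum_epsilon i ρ t hkill hker htm hE hG hind hmJ v (fun _ => a - b)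
      (by rw [Fin.sum_univ_one, map_sub, h, sub_self]) 0
  refine { exact := ?_, mono_f := ‹_›, epi_g := epi_sigma i ρ }
  rw [ShortComplex.exact_iff_epi_kernel_lift]
  refine (H8Props.FunDescent.epi_iff _).2 fun v z => ?_
  obtain ⟨g, hg⟩ := exists_epsilon_of_sigma_eq_zero i ρ t hkill hker htm hG hspan v
    (stalkLin (kernel.ι (sigma i ρ)) v z) (by
      rw [← stalkLin_comp, kernel.condition]; exact stalkLin_zero v z)
  refine ⟨g 0, (H8Props.FunDescent.mono_iff (kernel.ι (sigma i ρ))).1 inferInstance v ?_⟩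
  rw [← stalkLin_comp, kernel.lift_ι, hg, Fin.sum_univ_one]

variable (r : (Scheme.Modules.pullback i).obj (kernel ρ) ⟶ (Scheme.Modules.pullback i).obj G)

/-- The map defining the kernel of the lifted quotient. -/
noncomputable abbrev retKer : kernel ρ ⟶ (Scheme.Modules.pushforward i).obj ((Scheme.Modules.pullback i).obj G) :=
  (Scheme.Modules.pullbackPushforwardAdjunction i).homEquiv _ _ r

/-- The lifted quotient. -/
noncomputable abbrev liftObj : P.Modules := cokernel (kernel.ι (retKer i ρ r) ≫ kernel.ι ρ)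

/-- The quotient map onto the lift. -/
noncomputable abbrev liftQ : E ⟶ liftObj i ρ r := cokernel.π _

/-- The map from the lift onto the quotient. -/
noncomputable abbrev liftG : liftObj i ρ r ⟶ G :=
  cokernel.desc _ ρ (by rw [Category.assoc, kernel.condition, comp_zero])

omit [IsLocalRing R] [IsArtinianRing R] [Epi ρ] in
theorem stalkR_liftQ_eq_zero_iff (v : Z) (q : (kernel ρ).presheaf.stalk (i v)) :
    stalkR R (liftQ i ρ r) (i v) (stalkR R (kernel.ι ρ) (i v) q) = 0 ↔
      stalkLin r v (pullStalk i (kernel ρ) v q) = 0 := by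
  rw [← stalkLin_homEquiv_eq_zero_iff]
  let φ := retKer i ρ r
  haveI : Mono (kernel.ι φ ≫ kernel.ι ρ) := inferInstance
  have hS : (ShortComplex.mk (kernel.ι φ ≫ kernel.ι ρ) (liftQ i ρ r) (cokernel.condition _)).ShortExact :=
    { exact := ShortComplex.exact_of_g_is_cokernel _ (cokernelIsCokernel _)
      mono_f := inferInstance
      epi_g := inferInstance }
  rw [stalkR_apply, stalkR_apply, stalk_exact _ hS (i v)]
  constructor
  · rintro ⟨y, hy⟩
    change stalkLin (kernel.ι φ ≫ kernel.ι ρ) (i v) y = _ at hy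
    rw [stalkLin_comp] at hy
    rw [← stalkR_ι_injective (R := R) ρ (i v) hy, ← stalkLin_comp, kernel.condition]
    exact stalkLin_zero _ _
  · intro h
    have hφ : (ShortComplex.mk (kernel.ι φ) φ (kernel.condition _)).Exact :=
      ShortComplex.exact_of_f_is_kernel _ (kernelIsKernel _)
    let c := Abelian.factorThruImage φ
    have hS' : (ShortComplex.mk (kernel.ι φ) c (by
        rw [← cancel_mono (Abelian.image.ι φ), Category.assoc, Abelian.image.fac, kernel.condition, zero_comp])).ShortExact :=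
      { exact := by
          let f : ShortComplex.mk (kernel.ι φ) c (by
              rw [← cancel_mono (Abelian.image.ι φ), Category.assoc, Abelian.image.fac, kernel.condition, zero_comp]) ⟶
              ShortComplex.mk (kernel.ι φ) φ (kernel.condition _) :=
            ShortComplex.homMk (𝟙 _) (𝟙 _) (Abelian.image.ι φ) ((Category.id_comp _).trans (Category.comp_id _).symm)
              ((Category.id_comp _).trans (Abelian.image.fac φ).symm)
          haveI : Epi f.τ₁ := inferInstanceAs (Epi (𝟙 _))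
          haveI : IsIso f.τ₂ := inferInstanceAs (IsIso (𝟙 _))
          haveI : Mono f.τ₃ := inferInstanceAs (Mono (Abelian.image.ι φ))
          exact (ShortComplex.exact_iff_of_epi_of_isIso_of_mono f).2 hφ
        mono_f := inferInstance
        epi_g := inferInstance }
    obtain ⟨y, hy⟩ := (stalk_exact _ hS' (i v) q).1 ((H8Props.FunDescent.mono_iff (Abelian.image.ι φ)).1
      inferInstance (i v) (by
        show stalkLin (Abelian.image.ι φ) (i v) (stalkLin c (i v) q) = stalkLin (Abelian.image.ι φ) (i v) 0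
        rw [← stalkLin_comp, Abelian.image.fac, map_zero]
        exact h))
    refine ⟨y, ?_⟩
    change stalkLin (kernel.ι φ ≫ kernel.ι ρ) (i v) y = _
    rw [stalkLin_comp]
    exact congrArg _ hy

variable (hr : epsilon i ρ t hkill hker htm 0 ≫ r = 𝟙 _)

include hr

theorem retraction_tau (v : Z) (e : E.presheaf.stalk (i v)) :
    stalkLin r v (pullStalk i (kernel ρ) v (stalkLin (tau ρ t hkill 0) (i v) e)) =
      pullStalk i G v (stalkLin ρ (i v) e) := by
  rw [← epsilon_pullStalk i ρ t hkill hker htm, ← stalkLin_comp, hr, stalkLin_id]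

include htJ hi in
/-- The kernel of the map from the lift is made of multiples of the kernel of the extension. -/
theorem ker_liftG_le (y : P) :
    LinearMap.ker (stalkR R (liftG i ρ r) y) ≤ J • (⊤ : Submodule R ((liftObj i ρ r).presheaf.stalk y)) := by
  obtain ⟨v, rfl⟩ := hi y
  intro z hz
  obtain ⟨e, rfl⟩ := stalk_surjective_of_epi (R := R) (liftQ i ρ r) (i v) z
  rw [LinearMap.mem_ker, ← stalkR_comp, cokernel.π_desc, ← LinearMap.mem_ker, ← range_stalkR_ι] at hz
  obtain ⟨q, rfl⟩ := hz
  obtain ⟨g, hg⟩ := pullStalk_surjective i G v (stalkLin r v (pullStalk i (kernel ρ) v q))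
  obtain ⟨e₀, rfl⟩ := stalk_surjective_of_epi (R := R) ρ (i v) g
  have h0 := (stalkR_liftQ_eq_zero_iff (R := R) i ρ r v (q - stalkLin (tau ρ t hkill 0) (i v) e₀)).2 (by
    rw [map_sub, map_sub, retraction_tau i ρ hkill hker htm r hr, sub_eq_zero]
    exact hg.symm)
  rw [map_sub, map_sub, sub_eq_zero] at h0
  rw [h0]
  show stalkR R (liftQ i ρ r) (i v) (stalkR R (kernel.ι ρ) (i v) (stalkR R (tau ρ t hkill 0) (i v) e₀)) ∈ _
  rw [stalkR_tau, map_smul]
  exact Submodule.smul_mem_smul (htJ 0) Submodule.mem_top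

include hG hspan htJ hmJ hi in
/-- The lift is flat. -/
theorem flat_liftObj (y : P) : Module.Flat R ((liftObj i ρ r).presheaf.stalk y) := by
  have hJ : J ≠ ⊤ := fun h => by
    have hle : (Ideal.span (Set.range t)) ≤ maximalIdeal R := Ideal.span_le.2 (by rintro _ ⟨l, rfl⟩; exact htm l)
    exact (maximalIdeal.isMaximal R).ne_top (top_le_iff.1 ((h ▸ hspan).trans hle))
  have hkillJ : ∀ j ∈ J, ∀ g : G.presheaf.stalk y, j • g = 0 := fun j hj g => by
    obtain ⟨c, rfl⟩ := Ideal.mem_span_range_iff_exists_fun.1 (hspan hj)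
    rw [Fin.sum_univ_one, mul_smul, ← stalkLin_smulMod G (t 0) y g, hkill 0, stalkLin_zero, smul_zero]
  refine flat_of_relTriv hmJ hJ hspan htJ (stalkR R (liftG i ρ r) y)
    (fun g => by
      obtain ⟨e, rfl⟩ := stalk_surjective_of_epi (R := R) ρ y g
      exact ⟨stalkR R (liftQ i ρ r) y e, by rw [← stalkR_comp, cokernel.π_desc]⟩)
    (ker_liftG_le i ρ hkill hker htm htJ hi r hr y) hkillJ (hG y) fun z hz l => ?_
  obtain rfl : l = 0 := Fin.fin_one_eq_zero l
  rw [Fin.sum_univ_one] at hz
  obtain ⟨v, rfl⟩ := hi y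
  obtain ⟨e, he⟩ := stalk_surjective_of_epi (R := R) (liftQ i ρ r) (i v) (z 0)
  rw [← he, ← map_smul, ← stalkR_tau ρ t hkill 0 (i v) e, stalkR_liftQ_eq_zero_iff] at hz
  have h1 : pullStalk i G v (stalkR R ρ (i v) e) = 0 :=
    (retraction_tau i ρ hkill hker htm r hr v e).symm.trans hz
  rw [pullStalk_eq_zero_iff_base i G v (hker v), ← LinearMap.range_eq_top.2 (stalk_surjective_of_epi ρ (i v)),
    ← Submodule.map_top, ← Submodule.map_smul''] at h1
  obtain ⟨e₁, he₁, he₂⟩ := h1
  have hd : stalkR R ρ (i v) (e - e₁) = 0 := by rw [map_sub, he₂, sub_self]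
  rw [← he, ← sub_add_cancel e e₁, map_add]
  refine add_mem ?_ ?_
  · refine Submodule.smul_mono_left (show J ≤ maximalIdeal R from le_maximalIdeal hJ)
      (ker_liftG_le i ρ hkill hker htm htJ hi r hr (i v) ?_)
    rw [LinearMap.mem_ker, ← stalkR_comp, cokernel.π_desc]
    exact hd
  · have := Submodule.mem_map_of_mem (f := stalkR R (liftQ i ρ r) (i v)) he₁
    rw [Submodule.map_smul''] at this
    exact Submodule.smul_mono le_rfl le_top this

omit hr r

variable {G' : P.Modules} (q' : E ⟶ G') [Epi q'] (g : G' ⟶ G) (hqg : q' ≫ g = ρ)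
  (hflat : ∀ v : P, Module.Flat R (G'.presheaf.stalk v))
  (hkg : ∀ v : P, LinearMap.ker (stalkR R g v) ≤ J • (⊤ : Submodule R (G'.presheaf.stalk v)))

include hmJ hspan htJ hflat hkg hind hqg

/-- A flat lift gives a retraction determining it. -/
theorem exists_retraction : ∃ r : (Scheme.Modules.pullback i).obj (kernel ρ) ⟶ (Scheme.Modules.pullback i).obj G,
    epsilon i ρ t hkill hker htm 0 ≫ r = 𝟙 _ ∧ ∀ (v : Z) (q : (kernel ρ).presheaf.stalk (i v)),
      stalkLin r v (pullStalk i (kernel ρ) v q) = 0 ↔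
        stalkR R q' (i v) (stalkR R (kernel.ι ρ) (i v) q) = 0 := by
  let L := Scheme.Modules.pullback i
  let adj := Scheme.Modules.pullbackPushforwardAdjunction i
  haveI : PreservesColimitsOfSize.{0, 0} L := adj.leftAdjoint_preservesColimits
  let N := kernel g
  let θ : E ⟶ N := kernel.lift g (q' ≫ Formal.smulMod R G' (t 0)) (by
    rw [Category.assoc, H24Formal.smulMod_comm, ← Category.assoc, hqg, hkill 0, comp_zero])
  let κ : kernel ρ ⟶ N := kernel.lift g (kernel.ι ρ ≫ q') (by rw [Category.assoc, hqg, kernel.condition])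
  have hτκ : tau ρ t hkill 0 ≫ κ = θ := by
    rw [← cancel_mono (kernel.ι g), Category.assoc, kernel.lift_ι, kernel.lift_ι, ← Category.assoc, tau_ι,
      H24Formal.smulMod_comm]
  have hθ : ∀ v, ∀ e : E.presheaf.stalk v, stalkR R (kernel.ι g) v (stalkR R θ v e) = t 0 • stalkR R q' v e :=
    fun v e => by
      rw [← stalkR_comp, kernel.lift_ι, stalkR_comp]
      exact stalkLin_smulMod G' (t 0) v _
  have hN : ∀ (v : P) (z : N.presheaf.stalk v), ∃ e, stalkR R θ v e = z := fun v z => by
    have hz : stalkR R (kernel.ι g) v z ∈ LinearMap.ker (stalkR R g v) := by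
      rw [LinearMap.mem_ker, ← stalkR_comp, kernel.condition]
      exact stalkLin_zero v z
    obtain ⟨w, hw⟩ : ∃ w, stalkR R (kernel.ι g) v z = t 0 • w := by
      refine Submodule.smul_induction_on (p := fun y => ∃ w, y = t 0 • w) (hkg v hz) (fun j hj y _ => ?_) ?_
      · obtain ⟨c, rfl⟩ := Ideal.mem_span_range_iff_exists_fun.1 (hspan hj)
        exact ⟨c 0 • y, by rw [Fin.sum_univ_one, smul_smul, mul_comm]⟩
      · rintro _ _ ⟨w, rfl⟩ ⟨w', rfl⟩
        exact ⟨w + w', (smul_add _ _ _).symm⟩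
    obtain ⟨e, rfl⟩ := stalk_surjective_of_epi (R := R) q' v w
    exact ⟨e, (H8Props.FunDescent.mono_iff (kernel.ι g)).1 inferInstance v ((hθ v e).trans hw.symm)⟩
  haveI : Epi θ := (H8Props.FunDescent.epi_iff θ).2 fun v z => hN v z
  have hmN : ∀ (v : P) (z : N.presheaf.stalk v), z ∈ maximalIdeal R • (⊤ : Submodule R (N.presheaf.stalk v)) →
      z = 0 := fun v z hz => by
    refine Submodule.smul_induction_on (p := fun z => z = 0) hz (fun a ha y _ => ?_)
      (fun x y hx hy => by rw [hx, hy, add_zero])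
    obtain ⟨e, rfl⟩ := hN v y
    refine (H8Props.FunDescent.mono_iff (kernel.ι g)).1 inferInstance v ?_
    show stalkR R (kernel.ι g) v (a • stalkR R θ v e) = stalkR R (kernel.ι g) v 0
    rw [map_smul, hθ, smul_smul, map_zero]
    have hat : a * t 0 = 0 := by
      refine hmJ a ha _ ?_
      exact htJ 0
    rw [hat, zero_smul]
  have hbij : ∀ (v : Z) (z : N.presheaf.stalk (i v)), pullStalk i N v z = 0 → z = 0 := fun v z h =>
    hmN _ z ((pullStalk_eq_zero_iff_base i N v (hker v) z).1 h)
  have hσθ : kernel.ι (L.map ρ) ≫ L.map θ = 0 := by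
    haveI := epi_sigma i ρ
    rw [← cancel_epi (sigma i ρ), ← Category.assoc, sigma_ι, comp_zero, ← Functor.map_comp]
    have : kernel.ι ρ ≫ θ = Formal.smulMod R (kernel ρ) (t 0) ≫ κ := by
      rw [← ι_tau ρ t hkill 0, Category.assoc, hτκ]
    rw [this, Functor.map_comp, pullback_smulMod_eq_zero i t hker htm, zero_comp]
  let ν : L.obj G ⟶ L.obj N := Abelian.epiDesc (L.map ρ) (L.map θ) hσθ
  have hν : L.map ρ ≫ ν = L.map θ := Abelian.comp_epiDesc _ _ _
  haveI : Epi ν := epi_of_epi_fac hν
  haveI : Mono ν := (H8Props.FunDescent.mono_iff ν).2 fun v a b hab => by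
    rw [← sub_eq_zero]
    obtain ⟨g₀, hg₀⟩ := pullStalk_surjective i G v (a - b)
    obtain ⟨e, rfl⟩ := stalk_surjective_of_epi (R := R) ρ (i v) g₀
    have h2 : stalkLin ν v (pullStalk i G v (stalkR R ρ (i v) e)) = 0 := by rw [hg₀, map_sub, hab, sub_self]
    rw [stalkR_apply, ← stalkLin_pullback, ← stalkLin_comp, hν, stalkLin_pullback] at h2
    have h3 : t 0 • stalkR R q' (i v) e = 0 := by
      rw [← hθ, show stalkR R θ (i v) e = 0 from hbij v _ h2, map_zero]
    haveI := hflat (i v)
    have h4 := Submodule.mem_map_of_mem (f := stalkR R g (i v)) (mem_maximal_smul_of_smul_eq_zero hind h3)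
    rw [Submodule.map_smul'', ← stalkR_comp, hqg] at h4
    rw [← hg₀, pullStalk_eq_zero_iff_base i G v (hker v)]
    exact Submodule.smul_mono le_rfl le_top h4
  haveI : IsIso ν := isIso_of_mono_of_epi ν
  refine ⟨L.map κ ≫ inv ν, ?_, fun v q => ?_⟩
  · rw [← cancel_epi (L.map ρ), Category.comp_id, ← Category.assoc, map_epsilon i ρ t hkill hker htm,
      ← Category.assoc, ← L.map_comp, hτκ, ← hν, Category.assoc, IsIso.hom_inv_id, Category.comp_id]
  · rw [stalkLin_comp, ← stalkR_comp, ← kernel.lift_ι g (kernel.ι ρ ≫ q') (by rw [Category.assoc, hqg,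
      kernel.condition]), stalkR_comp]
    constructor
    · intro h
      have h2 : pullStalk i N v (stalkR R κ (i v) q) = 0 := by
        have h3 := congrArg (stalkLin ν v) h
        rw [← stalkLin_comp, IsIso.inv_hom_id, stalkLin_id, map_zero, stalkLin_pullback] at h3
        exact h3
      show stalkR R (kernel.ι g) (i v) (stalkR R κ (i v) q) = 0
      rw [hbij v _ h2, map_zero]
    · intro h
      have h2 : stalkR R κ (i v) q = 0 :=
        (H8Props.FunDescent.mono_iff (kernel.ι g)).1 inferInstance (i v) (h.trans (map_zero _).symm)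
      rw [stalkLin_pullback, show stalkLin κ (i v) q = 0 from h2, map_zero, map_zero]

end Groth.Agent.H24Quot
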