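import Groth.Agent.H24Quot.LocalQuot

/-!
# The member over a small extension given by a retraction
-/

set_option autoImplicit false
set_option linter.style.haveILetI false
universe u
open CategoryTheory CategoryTheory.Limits AlgebraicGeometry IsLocalRing ArtFun ArtFun.Art
open Groth.Agent.H06Mod

namespace Groth.Agent.H24Quot

attribute [local instance] stkModule overArt

variable {k : Type u} [Field k] {X : Scheme.{u}} (x : X ⟶ specPt k) [LocallyOfFiniteType x] {E : X.Modules}
  {B A : Art k k} (p : B ⟶ A)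

/-- A retraction gives a member over the thickening, with the expected kernel. -/
theorem exists_member_of_retraction (hE : Coh.IsCoh E) (hp : Function.Surjective p) (K : FGA.QuotSet x E (sp A))
    {t : Fin 1 → B} (htp : ∀ l, p (t l) = 0) (htm : ∀ l, t l ∈ maximalIdeal B)
    (hspan : RingHom.ker p.toAlgHom.toRingHom ≤ Ideal.span (Set.range t))
    (hmJ : ∀ a ∈ maximalIdeal B, ∀ j ∈ RingHom.ker p.toAlgHom.toRingHom, a * j = 0) :
    haveI := epi_rho x E p K hp
    haveI := isClosedImmersion_XTmap x (toBase B) B.res_surjective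
    ∀ r : (Scheme.Modules.pullback (PicF.XTmap x (gm (toBase B)))).obj (kernel (rho x E p K)) ⟶
        (Scheme.Modules.pullback (PicF.XTmap x (gm (toBase B)))).obj (Gq x E p K),
      epsilon (PicF.XTmap x (gm (toBase B))) (rho x E p K) t (fun l => smulMod_push x p _ hp (htp l))
          (ker_XTmap_toBase x) htm 0 ≫ r = 𝟙 _ →
      ∃ K' : FGA.QuotSet x E (sp B), FGA.quotPull x E (gm p) K'.1 = K.1 ∧
        ∀ (v : PicF.XT x (sp (Art.base k k)))
          (q : (kernel (rho x E p K)).presheaf.stalk (PicF.XTmap x (gm (toBase B)) v)),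
          stalkLin (cokernel.π K'.1.arrow) _ (stalkLin (kernel.ι (rho x E p K)) _ q) = 0 →
            stalkLin r v (pullStalk (PicF.XTmap x (gm (toBase B))) (kernel (rho x E p K)) v q) = 0 := by
  haveI := isClosedImmersion_XTmap x p hp
  haveI := isClosedImmersion_XTmap x (toBase B) B.res_surjective
  haveI := isLocallyNoetherian_XT x (A := B)
  haveI := epi_rho x E p K hp
  let i := PicF.XTmap x (gm (toBase B))
  let ρ := rho x E p K
  intro r hr
  have hkill : ∀ l, Formal.smulMod B (Gq x E p K) (t l) = 0 := fun l => smulMod_push x p _ hp (htp l)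
  have hker := ker_XTmap_toBase x (B := B)
  have hG := relTriv_Gq x E p K hp
  have htJ : ∀ l, t l ∈ RingHom.ker p.toAlgHom.toRingHom := htp
  have hi := surjective_XTmap x (toBase B)
  let m : kernel (retKer i ρ r) ⟶ FGA.ET x E (sp B) := kernel.ι _ ≫ kernel.ι ρ
  let K' := Subobject.mk m
  have hK' : K' = kernelSubobject (liftQ i ρ r) := by
    have h1 := (kernelSubobject_cokernel_π K').symm
    rw [h1]
    let ι := Subobject.underlyingIso m
    have h2 : ι.hom ≫ m = K'.arrow := Subobject.underlyingIso_hom_comp_eq_mk m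
    obtain ⟨φ, hφ⟩ : ∃ φ : cokernel m ≅ cokernel K'.arrow, cokernel.π m ≫ φ.hom = cokernel.π K'.arrow :=
      ⟨cokernel.mapIso m K'.arrow ι.symm (Iso.refl _) (by
        rw [Iso.refl_hom, Category.comp_id, Iso.symm_hom, ← h2, Iso.inv_hom_id_assoc]),
        (cokernel.π_desc _ _ _).trans (Category.id_comp _)⟩
    rw [← hφ, kernelSubobject_comp_mono]
  obtain ⟨φ⟩ := nonempty_cokernel_iso (liftQ i ρ r) K' hK'
  have hEcoh := isCoh_ET x hE (sp B)
  have hGcoh : Coh.IsCoh (Gq x E p K) := H24FSch.isCoh_pushforward_of_isClosedImmersion _ K.2.1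
  have hcoh : Coh.IsCoh (liftObj i ρ r) := by
    have h1 : Coh.IsCoh (kernel ρ) := H10Coh.isCoh_kernel ρ hEcoh hGcoh.1
    have h2 := H24FSch.isCoh_pushforward_of_isClosedImmersion i (H17.ConsProp.isCoh_pullback i hGcoh)
    exact H10Coh.isCoh_cokernel _ (H10Coh.isCoh_kernel (retKer i ρ r) h1 h2.1).1 hEcoh
  refine ⟨⟨K', H10Coh.isCoh_of_iso φ hcoh, isFlatOver_congr _ φ (isFlatOver_of_flat_stalk x
    (flat_liftObj i ρ hkill hker htm hG hspan htJ hmJ hi r hr))⟩, ?_, fun v q hq => ?_⟩
  swap
  · refine (stalkR_liftQ_eq_zero_iff (R := B) i ρ r v q).1 ?_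
    have h4 : kernelSubobject (cokernel.π K'.arrow) = kernelSubobject (liftQ i ρ r) :=
      (kernelSubobject_cokernel_π K').trans hK'
    obtain ⟨φ', hφ'⟩ := exists_iso_of_kernelSubobject_eq _ _ h4
    show stalkLin (liftQ i ρ r) (i v) (stalkLin (kernel.ι ρ) (i v) q) = 0
    rw [← hφ', stalkLin_comp]
    exact (congrArg _ hq).trans (map_zero _)
  haveI := epi_pullQ x E (gm p) (liftQ i ρ r)
  let ψ' := ((Scheme.Modules.pullbackPushforwardAdjunction (PicF.XTmap x (gm p))).homEquiv _ _).symm (liftG i ρ r)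
  have hψ : pullQ x E (gm p) (liftQ i ρ r) ≫ ψ' = cokernel.π K.1.arrow := by
    rw [pullQ, Category.assoc, ← Adjunction.homEquiv_naturality_left_symm, cokernel.π_desc, Equiv.symm_apply_apply,
      Iso.inv_hom_id_assoc]
  haveI : Mono ψ' := (H8Props.FunDescent.mono_iff _).2 fun v => (injective_iff_map_eq_zero _).2 fun z hz => by
    obtain ⟨z, rfl⟩ := pullStalk_surjective (PicF.XTmap x (gm p)) _ v z
    have h1 := (stalkLin_homEquiv_eq_zero_iff (PicF.XTmap x (gm p)) ψ' v z).2 hz
    rw [Equiv.apply_symm_apply] at h1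
    exact (pullStalk_eq_zero_iff_base _ _ v (ker_XTmap x p hp v) z).2
      (ker_liftG_le i ρ hkill hker htm htJ hi r hr _ h1)
  rw [quotPull_eq x E _ (liftQ i ρ r) K' hK', ← kernelSubobject_comp_mono _ ψ']
  exact (congrArg (fun f => kernelSubobject f) hψ).trans (kernelSubobject_cokernel_π _)

end Groth.Agent.H24Quot
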