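import Groth.Agent.H24Quot.Adapted

/-!
# The tangent space of the local Quot functor
-/

set_option autoImplicit false
set_option linter.style.haveILetI false
universe u
open CategoryTheory CategoryTheory.Limits AlgebraicGeometry IsLocalRing ArtFun ArtFun.Art
open Groth.Agent.H06Mod

namespace Groth.Agent.H24Quot

attribute [local instance] stkModule overArt over0

section abstract

universe w w'

variable {C : Type w} [Category.{w'} C] [Preadditive C] {P₂ P₁ R T : C}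

theorem add_combination (m₁ m₂ m₃ m₀ : P₂ ⟶ P₁) (s : P₁ ⟶ R) (s₂ : P₂ ⟶ R) [Epi s₂] (h₁ : m₁ ≫ s = s₂)
    (h₂ : m₂ ≫ s = s₂) (h₃ : m₃ ≫ s = s₂) (r₀ : P₁ ⟶ T) (d₁ d₂ d₃ : R ⟶ T)
    (e₀ : m₃ ≫ r₀ - m₁ ≫ r₀ - m₂ ≫ r₀ + m₀ ≫ r₀ = 0)
    (e : m₃ ≫ (r₀ + s ≫ d₃) - m₁ ≫ (r₀ + s ≫ d₁) - m₂ ≫ (r₀ + s ≫ d₂) + m₀ ≫ r₀ = 0) : d₃ = d₁ + d₂ := by
  rw [Preadditive.comp_add, Preadditive.comp_add, Preadditive.comp_add, reassoc_of% h₁, reassoc_of% h₂,
    reassoc_of% h₃] at e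
  rw [← cancel_epi s₂, Preadditive.comp_add, ← sub_eq_zero]
  calc s₂ ≫ d₃ - (s₂ ≫ d₁ + s₂ ≫ d₂)
      = (m₃ ≫ r₀ + s₂ ≫ d₃ - (m₁ ≫ r₀ + s₂ ≫ d₁) - (m₂ ≫ r₀ + s₂ ≫ d₂) + m₀ ≫ r₀) -
        (m₃ ≫ r₀ - m₁ ≫ r₀ - m₂ ≫ r₀ + m₀ ≫ r₀) := by abel
    _ = 0 := by rw [e, e₀, sub_zero]

theorem smul_combination (m : P₁ ⟶ P₁) (s : P₁ ⟶ R) [Epi s] (hm : m ≫ s = s) (r₀ : P₁ ⟶ T) (c : T ⟶ T)
    (d d' : R ⟶ T) (e₀ : m ≫ r₀ = r₀ ≫ c) (e : m ≫ (r₀ + s ≫ d') = (r₀ + s ≫ d) ≫ c) : d' = d ≫ c := by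
  rw [Preadditive.comp_add, e₀, reassoc_of% hm, Preadditive.add_comp, add_right_inj, Category.assoc] at e
  exact (cancel_epi s).1 e

end abstract

variable {k : Type u} [Field k]

/-- The element `ε₁`. -/
def eps₁ : dual2 k k := (TrivSqZeroExt.inr ((1 : k), (0 : k)) : TrivSqZeroExt k (k × k))

/-- The element `ε₂`. -/
def eps₂ : dual2 k k := (TrivSqZeroExt.inr ((0 : k), (1 : k)) : TrivSqZeroExt k (k × k))

theorem gens_mem (l : Fin 2) : ![eps₁ (k := k), eps₂] l ∈ maximalIdeal (dual2 k k) := by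
  refine ((dual2 k k).mem_maximalIdeal_iff _).2 ?_
  fin_cases l
  · exact TrivSqZeroExt.fst_inr k ((1 : k), (0 : k))
  · exact TrivSqZeroExt.fst_inr k ((0 : k), (1 : k))

theorem eq_inl_mul_add (j : TrivSqZeroExt k (k × k)) (hj : j.fst = 0) :
    j = TrivSqZeroExt.inl j.snd.1 * TrivSqZeroExt.inr ((1 : k), (0 : k)) +
      TrivSqZeroExt.inl j.snd.2 * TrivSqZeroExt.inr ((0 : k), (1 : k)) := by
  refine TrivSqZeroExt.ext ?_ ?_
  · simp [hj]
  · simp

theorem span_gens : maximalIdeal (dual2 k k) ≤ Ideal.span (Set.range ![eps₁ (k := k), eps₂]) := fun j hj => by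
  rw [show j = _ from eq_inl_mul_add j (((dual2 k k).mem_maximalIdeal_iff j).1 hj)]
  exact add_mem (Ideal.mul_mem_left _ _ (Ideal.subset_span ⟨0, rfl⟩))
    (Ideal.mul_mem_left _ _ (Ideal.subset_span ⟨1, rfl⟩))

theorem eq_algebraMap_mul_snd (z : dual k k) (hz : (dual k k).res z = 0) (c : k)
    (hc : TrivSqZeroExt.snd (z : TrivSqZeroExt k k) = c) : z = algebraMap k (dual k k) c * epsD := by
  subst hc
  exact eq_inl_mul_inr z hz

theorem map_gen (f : dual2 k k ⟶ dual k k) (l : Fin 2) (c : k)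
    (hc : TrivSqZeroExt.snd (f (![eps₁ (k := k), eps₂] l) : TrivSqZeroExt k k) = c) :
    f (![eps₁ (k := k), eps₂] l) = algebraMap k (dual k k) c * epsD := by
  refine eq_algebraMap_mul_snd _ ?_ c hc
  rw [res_app]
  exact ((dual2 k k).mem_maximalIdeal_iff _).1 (gens_mem l)

theorem scale_epsD (c : k) : (scale c : dual k k ⟶ dual k k) (epsD (k := k)) = algebraMap k (dual k k) c * epsD := by
  refine eq_algebraMap_mul_snd _ ?_ c ?_
  · rw [res_app]; exact res_epsD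
  · exact mul_one c

theorem hom_base_eq {A : Art k k} (j : Art.base k k ⟶ A) : j = ofBase A :=
  Art.hom_ext (AlgHom.ext fun c => j.toAlgHom.commutes c)

variable {X : Scheme.{u}} (x : X ⟶ specPt k) {E : X.Modules} (K₀ : FGA.QuotSet x E (sp (Art.base k k)))

theorem mapQ_comp {A B C : Art k k} (f : A ⟶ B) (g : B ⟶ C) (K : QuotDef x K₀ A) :
    mapQ x K₀ g (mapQ x K₀ f K) = mapQ x K₀ (f ≫ g) K :=
  quotDef_ext x K₀ (quotPull_gm_comp x f g K.1.1)

/-- The member over the ground field. -/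
noncomputable def b₀ : QuotDef x K₀ (Art.base k k) :=
  ⟨K₀, by rw [show toBase (Art.base k k) = 𝟙 _ from (eq_toBase (𝟙 (Art.base k k))).symm]; exact quotPull_gm_id x K₀.1⟩

/-- The trivial deformation. -/
noncomputable def triv : QuotDef x K₀ (dual k k) := mapQ x K₀ (ofBase (dual k k)) (b₀ x K₀)

theorem mapQ_triv {A : Art k k} (j : Art.base k k ⟶ A) (f : A ⟶ dual k k) :
    mapQ x K₀ f (mapQ x K₀ j (b₀ x K₀)) = triv x K₀ := by
  rw [mapQ_comp, hom_base_eq (j ≫ f), triv]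

theorem mapQ_toBase {A : Art k k} (Z : QuotDef x K₀ A) : mapQ x K₀ (toBase A) Z = b₀ x K₀ :=
  quotDef_ext x K₀ Z.2

theorem subsingleton_base : Subsingleton (QuotDef x K₀ (Art.base k k)) :=
  ⟨fun K K' => by
    have h : ∀ L : QuotDef x K₀ (Art.base k k), L = b₀ x K₀ := fun L => quotDef_ext x K₀ (by
      exact (quotPull_gm_id x L.1.1).symm.trans
        ((congrArg (fun t => FGA.quotPull x E (gm t) L.1.1) (eq_toBase (𝟙 (Art.base k k)))).trans L.2))
    rw [h K, h K']⟩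

variable {x K₀}

/-- The retraction along a change of thickening. -/
theorem change_adapted {B : Art k k} {f : B ⟶ dual k k}
    {μ : (Scheme.Modules.pullback (PicF.XTmap x (gm (toBase B)))).obj (kernel (rho x E (toBase B) K₀)) ⟶
      (Scheme.Modules.pullback (PicF.XTmap x (gm (toBase (dual k k))))).obj (kernel (rho x E (toBase (dual k k)) K₀))}
    (hμ : ∀ (b : B) (hb : b ∈ maximalIdeal B) (e : dual k k) (he : e ∈ maximalIdeal (dual k k)) (d : k),
      f b = algebraMap k (dual k k) d * e →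
        eps x K₀ b hb ≫ μ = Formal.smulMod k (cokernel K₀.1.arrow) d ≫ eps x K₀ e he)
    {K : QuotDef x K₀ (dual k k)}
    {r : (Scheme.Modules.pullback (PicF.XTmap x (gm (toBase (dual k k))))).obj
      (kernel (rho x E (toBase (dual k k)) K₀)) ⟶ cokernel K₀.1.arrow}
    (h : Adapted x K₀ K r) (b : B) (hb : b ∈ maximalIdeal B) (c : k) (hf : f b = algebraMap k (dual k k) c * epsD) :
    eps x K₀ b hb ≫ μ ≫ r = c • 𝟙 (cokernel K₀.1.arrow) := by
  rw [← Category.assoc, hμ b hb epsD epsD_mem c hf, Category.assoc, h.1, KLin.smul_def]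

variable (x K₀)

theorem exists_tangent {r₀ : (Scheme.Modules.pullback (PicF.XTmap x (gm (toBase (dual k k))))).obj
      (kernel (rho x E (toBase (dual k k)) K₀)) ⟶ cokernel K₀.1.arrow}
    (h₀ : Adapted x K₀ (triv x K₀) r₀) (K : QuotDef x K₀ (dual k k)) :
    ∃ d : kernel (cokernel.π K₀.1.arrow) ⟶ cokernel K₀.1.arrow, Adapted x K₀ K (r₀ + sig x K₀ (dual k k) ≫ d) := by
  obtain ⟨r₁, h₁, -⟩ := exists_adapted_stalk x K₀ K
  obtain ⟨d, hd⟩ := exists_desc x K₀ (fun _ : Fin 1 => epsD) (fun _ => epsD_mem) span_epsD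
    (r₁ ≫ cou (PicF.XTmap x (gm (toBase (dual k k)))) (cokernel K₀.1.arrow) - r₀) fun _ => by
      rw [Preadditive.comp_sub, h₁.1, h₀.1, sub_self]
  refine ⟨d, ?_⟩
  rw [hd, add_sub_cancel]
  exact h₁

theorem exists_member_tangent [LocallyOfFiniteType x] (hE : Coh.IsCoh E)
    {r₀ : (Scheme.Modules.pullback (PicF.XTmap x (gm (toBase (dual k k))))).obj
      (kernel (rho x E (toBase (dual k k)) K₀)) ⟶ cokernel K₀.1.arrow}
    (h₀ : Adapted x K₀ (triv x K₀) r₀) (d : kernel (cokernel.π K₀.1.arrow) ⟶ cokernel K₀.1.arrow) :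
    ∃ K : QuotDef x K₀ (dual k k), Adapted x K₀ K (r₀ + sig x K₀ (dual k k) ≫ d) := by
  refine exists_member_adapted x K₀ hE _ ?_
  rw [Preadditive.comp_add, h₀.1, ← Category.assoc, eps_sig, zero_comp, add_zero]

theorem tangent_add {r₀ : (Scheme.Modules.pullback (PicF.XTmap x (gm (toBase (dual k k))))).obj
      (kernel (rho x E (toBase (dual k k)) K₀)) ⟶ cokernel K₀.1.arrow}
    (h₀ : Adapted x K₀ (triv x K₀) r₀) (Z : QuotDef x K₀ (dual2 k k))
    {d₁ d₂ d₃ : kernel (cokernel.π K₀.1.arrow) ⟶ cokernel K₀.1.arrow}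
    (h₁ : Adapted x K₀ (mapQ x K₀ pr₁ Z) (r₀ + sig x K₀ (dual k k) ≫ d₁))
    (h₂ : Adapted x K₀ (mapQ x K₀ pr₂ Z) (r₀ + sig x K₀ (dual k k) ≫ d₂))
    (h₃ : Adapted x K₀ (mapQ x K₀ plus Z) (r₀ + sig x K₀ (dual k k) ≫ d₃)) : d₃ = d₁ + d₂ := by
  haveI := epi_sig x K₀ (dual2 k k)
  obtain ⟨μ₁, hs₁, he₁, hk₁⟩ := exists_change x K₀ (pr₁ : dual2 k k ⟶ dual k k)
  obtain ⟨μ₂, hs₂, he₂, hk₂⟩ := exists_change x K₀ (pr₂ : dual2 k k ⟶ dual k k)
  obtain ⟨μ₃, hs₃, he₃, hk₃⟩ := exists_change x K₀ (plus : dual2 k k ⟶ dual k k)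
  obtain ⟨μ₀, -, he₀, hk₀⟩ := exists_change x K₀ (toBase (dual2 k k) ≫ ofBase (dual k k))
  have hz : ∀ Z' : QuotDef x K₀ (dual2 k k), mapQ x K₀ (toBase (dual2 k k) ≫ ofBase (dual k k)) Z' = triv x K₀ :=
    fun Z' => by rw [← mapQ_comp, mapQ_toBase, triv]
  have key : ∀ (Z' : QuotDef x K₀ (dual2 k k))
      (r₁ r₂ r₃ : (Scheme.Modules.pullback (PicF.XTmap x (gm (toBase (dual k k))))).obj
        (kernel (rho x E (toBase (dual k k)) K₀)) ⟶ cokernel K₀.1.arrow),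
      Adapted x K₀ (mapQ x K₀ pr₁ Z') r₁ → Adapted x K₀ (mapQ x K₀ pr₂ Z') r₂ →
      Adapted x K₀ (mapQ x K₀ plus Z') r₃ → μ₃ ≫ r₃ - μ₁ ≫ r₁ - μ₂ ≫ r₂ + μ₀ ≫ r₀ = 0 := by
    intro Z' r₁ r₂ r₃ a₁ a₂ a₃
    have a₀ : Adapted x K₀ (mapQ x K₀ (toBase (dual2 k k) ≫ ofBase (dual k k)) Z') r₀ := by rw [hz]; exact h₀
    refine eq_zero_of_adapted x K₀ (dual2 k k) Z' ![eps₁, eps₂] gens_mem span_gens _ (fun l => ?_) ?_
    · have e₀ : TrivSqZeroExt.snd ((toBase (dual2 k k) ≫ ofBase (dual k k)) (![eps₁ (k := k), eps₂] l) :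
          TrivSqZeroExt k k) = 0 := rfl
      rw [Preadditive.comp_add, Preadditive.comp_sub, Preadditive.comp_sub,
        change_adapted he₀ a₀ _ _ 0 (map_gen _ l 0 e₀)]
      obtain rfl | rfl : l = 0 ∨ l = 1 := (show ∀ i : Fin 2, i = 0 ∨ i = 1 by decide) l
      · rw [change_adapted he₃ a₃ _ _ 1 (map_gen plus 0 1 (add_zero 1)),
          change_adapted he₁ a₁ _ _ 1 (map_gen pr₁ 0 1 rfl),
          change_adapted he₂ a₂ _ _ 0 (map_gen pr₂ 0 0 rfl), zero_smul, sub_self, sub_zero, zero_add]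
      · rw [change_adapted he₃ a₃ _ _ 1 (map_gen plus 1 1 (zero_add 1)),
          change_adapted he₁ a₁ _ _ 0 (map_gen pr₁ 1 0 rfl),
          change_adapted he₂ a₂ _ _ 1 (map_gen pr₂ 1 1 rfl), zero_smul, sub_zero, sub_self, zero_add]
    · rw [Preadditive.comp_add, Preadditive.comp_sub, Preadditive.comp_sub, hk₃ Z' r₃ a₃.2, hk₁ Z' r₁ a₁.2,
        hk₂ Z' r₂ a₂.2, hk₀ Z' r₀ a₀.2, sub_zero, sub_zero, add_zero]
  have e₀ := key (mapQ x K₀ (ofBase (dual2 k k)) (b₀ x K₀)) r₀ r₀ r₀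
    (by rw [mapQ_triv]; exact h₀) (by rw [mapQ_triv]; exact h₀) (by rw [mapQ_triv]; exact h₀)
  exact add_combination μ₁ μ₂ μ₃ μ₀ (sig x K₀ (dual k k)) (sig x K₀ (dual2 k k)) hs₁ hs₂ hs₃ r₀ d₁ d₂ d₃ e₀
    (key Z _ _ _ h₁ h₂ h₃)

theorem tangent_smul {r₀ : (Scheme.Modules.pullback (PicF.XTmap x (gm (toBase (dual k k))))).obj
      (kernel (rho x E (toBase (dual k k)) K₀)) ⟶ cokernel K₀.1.arrow}
    (h₀ : Adapted x K₀ (triv x K₀) r₀) (c : k) (K : QuotDef x K₀ (dual k k))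
    {d d' : kernel (cokernel.π K₀.1.arrow) ⟶ cokernel K₀.1.arrow}
    (h : Adapted x K₀ K (r₀ + sig x K₀ (dual k k) ≫ d))
    (h' : Adapted x K₀ (mapQ x K₀ (scale c) K) (r₀ + sig x K₀ (dual k k) ≫ d')) : d' = c • d := by
  haveI := epi_sig x K₀ (dual k k)
  obtain ⟨μ, hs, he, hk⟩ := exists_change x K₀ (scale c : dual k k ⟶ dual k k)
  have key : ∀ (K' : QuotDef x K₀ (dual k k))
      (r r' : (Scheme.Modules.pullback (PicF.XTmap x (gm (toBase (dual k k))))).obj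
        (kernel (rho x E (toBase (dual k k)) K₀)) ⟶ cokernel K₀.1.arrow),
      Adapted x K₀ K' r → Adapted x K₀ (mapQ x K₀ (scale c) K') r' →
      μ ≫ r' = r ≫ Formal.smulMod k (cokernel K₀.1.arrow) c := by
    intro K' r r' a a'
    rw [← sub_eq_zero]
    refine eq_zero_of_adapted x K₀ (dual k k) K' (fun _ : Fin 1 => epsD) (fun _ => epsD_mem) span_epsD _
      (fun _ => ?_) ?_
    · rw [Preadditive.comp_sub, change_adapted he a' epsD epsD_mem c (scale_epsD c), ← Category.assoc, a.1,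
        Category.id_comp, KLin.smul_id, sub_self]
    · rw [Preadditive.comp_sub, hk K' r' a'.2, ← Category.assoc, a.2, zero_comp, sub_zero]
  have e₀ := key (triv x K₀) r₀ r₀ h₀ (by
    rw [show mapQ x K₀ (scale c) (triv x K₀) = triv x K₀ from mapQ_triv x K₀ _ _]; exact h₀)
  rw [KLin.smul_def, H24Formal.smulMod_comm]
  exact smul_combination μ (sig x K₀ (dual k k)) hs r₀ _ d d' e₀ (key K _ _ h h')

theorem finrank_tangentSpace [LocallyOfFiniteType x] (hE : Coh.IsCoh E) [TangentStr (localQuot x K₀)]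
    (h2 : Heps (localQuot x K₀)) :
    Module.finrank k (TangentSpace (localQuot x K₀)) =
      Module.finrank k (Subobject.underlying.obj K₀.1 ⟶ cokernel K₀.1.arrow) := by
  haveI := epi_sig x K₀ (dual k k)
  haveI := subsingleton_base x K₀
  have h0 : H0 (localQuot x K₀) := ⟨⟨b₀ x K₀⟩, subsingleton_base x K₀⟩
  obtain ⟨r₁, h₀', -⟩ := exists_adapted_stalk x K₀ (triv x K₀)
  obtain ⟨r₀, h₀⟩ : ∃ r, Adapted x K₀ (triv x K₀) r := ⟨_, h₀'⟩
  choose T hT using exists_tangent x K₀ h₀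
  have huniq : ∀ K d, Adapted x K₀ K (r₀ + sig x K₀ (dual k k) ≫ d) → T K = d := fun K d h =>
    (cancel_epi (sig x K₀ (dual k k))).1 (add_left_cancel (adapted_unique (hT K) h))
  let L : TangentSpace (localQuot x K₀) →ₗ[k] (kernel (cokernel.π K₀.1.arrow) ⟶ cokernel K₀.1.arrow) :=
    { toFun := fun K => T K
      map_add' := fun K K' => by
        obtain ⟨Z, hZ₁, hZ₂⟩ := H24Art.exists_dual2 h0 h2 K K'
        have hsum : K + K' = (localQuot x K₀).map plus Z :=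
          (congrArg₂ (fun a b : TangentSpace (localQuot x K₀) => a + b) hZ₁.symm hZ₂.symm).trans (TangentStr.add_eq Z)
        refine tangent_add x K₀ h₀ Z ?_ ?_ ?_
        · rw [show mapQ x K₀ pr₁ Z = K from hZ₁]; exact hT K
        · rw [show mapQ x K₀ pr₂ Z = K' from hZ₂]; exact hT K'
        · rw [show mapQ x K₀ plus Z = (K + K' : TangentSpace (localQuot x K₀)) from hsum.symm]; exact hT (K + K')
      map_smul' := fun c K => by
        refine tangent_smul x K₀ h₀ c K (hT K) ?_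
        rw [show mapQ x K₀ (scale c) K = (c • K : TangentSpace (localQuot x K₀)) from
          (TangentStr.smul_eq c K).symm]
        exact hT (c • K) }
  have hL : Function.Bijective L := ⟨fun K K' h => eq_of_adapted x K₀ (r := r₀ + sig x K₀ (dual k k) ≫ T K) (hT K)
      (by rw [show T K = T K' from h]; exact hT K'), fun d => by
    obtain ⟨K, hK⟩ := exists_member_tangent x K₀ hE h₀ d
    exact ⟨K, huniq K d hK⟩⟩
  let i : kernel (cokernel.π K₀.1.arrow) ≅ (Subobject.underlying.obj K₀.1) :=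
    (kernelSubobjectIso _).symm ≪≫ Subobject.isoOfEq _ _ (kernelSubobject_cokernel_π K₀.1)
  exact ((LinearEquiv.ofBijective L hL).trans (Linear.homCongr k i (Iso.refl _))).finrank_eq

/-- The cotangent space of a Quot scheme at a rational point. -/
theorem finrank_cotangentSpace [LocallyOfFiniteType x] (hE : Coh.IsCoh E) (s : specPt k ⟶ specPt k)
    (hs : s = specOver (Art.base k k)) (Q : Over (specPt k)) (Ku : FGA.QuotSet x E Q)
    (hQ : FGA.QuotRepresentedBy x E Q Ku) (K₁ : FGA.QuotSet x E (Over.mk s)) (y : Over.mk s ⟶ Q)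
    (hy : FGA.quotPull x E y Ku.1 = K₁.1) :
    Module.finrank (ResidueField (Q.left.presheaf.stalk (y.left.base (IsLocalRing.closedPoint k))))
        (CotangentSpace (Q.left.presheaf.stalk (y.left.base (IsLocalRing.closedPoint k)))) =
      (letI : (PicF.XT x (Over.mk s)).Over (Spec (CommRingCat.of k)) := ⟨PicF.XTproj x (Over.mk s)⟩
      Module.finrank k (Subobject.underlying.obj K₁.1 ⟶ cokernel K₁.1.arrow)) := by
  subst hs
  haveI : IsLocallyNoetherian Q.left := hQ.1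
  obtain ⟨alg, ρ, ξ, hρ, hξ⟩ := exists_isUniversal_stalk x K₁ Q Ku hQ y hy
  have h2 : Heps (localQuot x K₁) :=
    H24Art.heps_of_isMiniversal ξ ⟨H24Art.isVersal_of_isUniversal ξ hξ, hξ _⟩ fun A => (hξ A).2
  obtain ⟨_⟩ := H24Art.nonempty_tangentStr (F := localQuot x K₁) ⟨⟨b₀ x K₁⟩, subsingleton_base x K₁⟩ h2
  exact (H24Art.finrank_cotangentSpace_eq_tangent ξ hρ hξ).trans (finrank_tangentSpace x K₁ hE h2)

end Groth.Agent.H24Quot
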